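import Groth.Agent.CohTopLib.Functors
import Mathlib.Topology.NoetherianSpace
import Mathlib.Topology.Sober
import Mathlib.Topology.Spectral.Basic
import Mathlib.Topology.KrullDimension

/-! # Sobrification of a Noetherian space, and transfer of cohomology -/

set_option autoImplicit false
set_option linter.style.haveILetI false

noncomputable section

universe u

open CategoryTheory CategoryTheory.Limits TopologicalSpace Opposite

namespace Groth.Agent.SpecVanish

open QCohBase CohTopLib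

variable (X : TopCat.{u})

/-- The irreducible closed subsets, as points of the sobrification. -/
structure SobPt : Type u where
  /-- the closed subset -/
  carrier : IrreducibleCloseds X

variable {X}

/-- The points meeting a subset. -/
def meets (U : Set X) : Set (SobPt X) := {C | ((C.carrier : Set X) ∩ U).Nonempty}

lemma meets_inter {U V : Set X} (hU : IsOpen U) (hV : IsOpen V) :
    meets U ∩ meets V = meets (X := X) (U ∩ V) := by
  ext C
  constructor
  · exact fun ⟨h1, h2⟩ => C.carrier.isIrreducible.2 U V hU hV h1 h2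
  · exact fun ⟨x, hC, h1, h2⟩ => ⟨⟨x, hC, h1⟩, ⟨x, hC, h2⟩⟩

instance : TopologicalSpace (SobPt X) where
  IsOpen s := ∃ U : Opens X, meets (U : Set X) = s
  isOpen_univ := ⟨⊤, Set.eq_univ_of_forall fun C =>
    C.carrier.isIrreducible.1.mono (fun x hx => ⟨hx, trivial⟩)⟩
  isOpen_inter := by
    rintro _ _ ⟨U, rfl⟩ ⟨V, rfl⟩
    exact ⟨U ⊓ V, (meets_inter U.2 V.2).symm⟩
  isOpen_sUnion S hS := by
    choose U hU using hS
    refine ⟨⨆ (s : S), U s.1 s.2, ?_⟩
    ext C
    constructor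
    · rintro ⟨x, hC, hx⟩
      obtain ⟨⟨s, hs⟩, hxs⟩ := Opens.mem_iSup.1 hx
      exact ⟨s, hs, (hU s hs) ▸ (⟨x, hC, hxs⟩ : C ∈ meets (U s hs : Set X))⟩
    · rintro ⟨s, hs, hCs⟩
      rw [← hU s hs] at hCs
      obtain ⟨x, hC, hx⟩ := hCs
      exact ⟨x, hC, Opens.mem_iSup.2 ⟨⟨s, hs⟩, hx⟩⟩

/-- The open attached to an open. -/
def sobOpen (U : Opens X) : Opens (SobPt X) := ⟨meets (U : Set X), U, rfl⟩

/-- The canonical map. -/
def sobMap (X : TopCat.{u}) : X ⟶ TopCat.of (SobPt X) :=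
  TopCat.ofHom ⟨fun x => ⟨⟨closure {x}, isIrreducible_singleton.closure, isClosed_closure⟩⟩,
    continuous_def.2 fun _ ⟨U, hU⟩ => by
      subst hU
      convert U.2 using 1
      ext x
      constructor
      · rintro ⟨y, hy, hyU⟩
        exact (specializes_iff_mem_closure.2 hy).mem_open U.2 hyU
      · exact fun hx => ⟨x, subset_closure rfl, hx⟩⟩

lemma sobMap_preimage (U : Opens X) : (Opens.map (sobMap X)).obj (sobOpen U) = U := by
  ext x
  constructor
  · rintro ⟨y, hy, hyU⟩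
    exact (specializes_iff_mem_closure.2 hy).mem_open U.2 hyU
  · exact fun hx => ⟨x, subset_closure rfl, hx⟩

lemma eq_sobOpen (V : Opens (SobPt X)) : ∃ U, V = sobOpen U :=
  let ⟨U, hU⟩ := V.2
  ⟨U, Opens.ext hU.symm⟩

instance : T0Space (SobPt X) := by
  refine ⟨fun C D h => ?_⟩
  have key : ∀ C D : SobPt X, Inseparable C D → (C.carrier : Set X) ⊆ D.carrier := by
    intro C D h x hx
    by_contra hxD
    obtain ⟨y, hy, hy'⟩ := (h.mem_open_iff ⟨⟨(D.carrier : Set X)ᶜ,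
      D.carrier.isClosed.isOpen_compl⟩, rfl⟩).1 ⟨x, hx, hxD⟩
    exact hy' hy
  obtain ⟨C⟩ := C
  obtain ⟨D⟩ := D
  exact congrArg SobPt.mk (IrreducibleCloseds.ext (Set.Subset.antisymm (key _ _ h) (key _ _ h.symm)))

instance : QuasiSober (SobPt X) := by
  refine ⟨fun {S} hS hSc => ?_⟩
  obtain ⟨U, hU⟩ := hSc.isOpen_compl
  have hmem : ∀ C : SobPt X, C ∈ S ↔ (C.carrier : Set X) ⊆ (U : Set X)ᶜ := by
    intro C
    have h := Set.ext_iff.1 hU C
    constructor
    · exact fun hC x hx hxU => h.1 ⟨x, hx, hxU⟩ hC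
    · intro hC
      by_contra hCS
      obtain ⟨x, hx, hxU⟩ := h.2 hCS
      exact hC hx hxU
  have hirr : IsIrreducible ((U : Set X)ᶜ) := by
    constructor
    · obtain ⟨C, hC⟩ := hS.1
      exact C.carrier.isIrreducible.1.mono ((hmem C).1 hC)
    · intro V W hV hW ⟨x, hxU, hxV⟩ ⟨y, hyU, hyW⟩
      obtain ⟨C, hC, hCV, hCW⟩ := hS.2 (meets V) (meets W) ⟨⟨V, hV⟩, rfl⟩ ⟨⟨W, hW⟩, rfl⟩
        ⟨sobMap X x, (hmem _).2 (closure_minimal (Set.singleton_subset_iff.2 hxU) U.2.isClosed_compl),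
          x, subset_closure rfl, hxV⟩
        ⟨sobMap X y, (hmem _).2 (closure_minimal (Set.singleton_subset_iff.2 hyU) U.2.isClosed_compl),
          y, subset_closure rfl, hyW⟩
      obtain ⟨z, hz, hzV, hzW⟩ : ((C.carrier : Set X) ∩ (V ∩ W)).Nonempty :=
        C.carrier.isIrreducible.2 V W hV hW hCV hCW
      exact ⟨z, (hmem C).1 hC hz, hzV, hzW⟩
  refine ⟨⟨⟨(U : Set X)ᶜ, hirr, U.2.isClosed_compl⟩⟩, isGenericPoint_def.2 ?_⟩
  refine Set.Subset.antisymm (closure_minimal (Set.singleton_subset_iff.2 ((hmem _).2 subset_rfl)) hSc) ?_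
  intro D hD
  refine mem_closure_iff.2 ?_
  rintro _ ⟨V, rfl⟩ ⟨x, hx, hxV⟩
  exact ⟨_, ⟨x, (hmem D).1 hD hx, hxV⟩, rfl⟩

theorem sob_isCompact [NoetherianSpace X] (V : Opens (SobPt X)) : IsCompact (V : Set (SobPt X)) := by
  obtain ⟨U, rfl⟩ := eq_sobOpen V
  refine isCompact_of_finite_subcover fun {ι} W hW hcov => ?_
  choose O hO using hW
  have hU : (U : Set X) ⊆ ⋃ i, (O i : Set X) := fun x hx => by
    obtain ⟨i, hi⟩ := Set.mem_iUnion.1 (hcov (show sobMap X x ∈ meets (U : Set X) from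
      ⟨x, subset_closure rfl, hx⟩))
    rw [← hO i] at hi
    obtain ⟨y, hy, hyO⟩ := hi
    exact Set.mem_iUnion.2 ⟨i, (specializes_iff_mem_closure.2 hy).mem_open (O i).2 hyO⟩
  obtain ⟨t, ht⟩ := (NoetherianSpace.isCompact (U : Set X)).elim_finite_subcover
    (fun i => (O i : Set X)) (fun i => (O i).2) hU
  refine ⟨t, fun C ⟨x, hx, hxU⟩ => ?_⟩
  obtain ⟨i, hi, hxi⟩ := Set.mem_iUnion₂.1 (ht hxU)
  exact Set.mem_iUnion₂.2 ⟨i, hi, hO i ▸ ⟨x, hx, hxi⟩⟩

theorem sob_spectral [NoetherianSpace X] : SpectralSpace (SobPt X) := by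
  haveI : NoetherianSpace (SobPt X) := (noetherianSpace_iff_opens (α := SobPt X)).2 sob_isCompact
  exact {}

lemma sob_specializes {C D : SobPt X} (h : C ⤳ D) : D.carrier ≤ C.carrier := fun x hx => by
  by_contra hxC
  obtain ⟨y, hy, hy'⟩ := h.mem_open ⟨⟨(C.carrier : Set X)ᶜ, C.carrier.isClosed.isOpen_compl⟩, rfl⟩
    ⟨x, hx, hxC⟩
  exact hy' hy

lemma sob_specializes_of_le {C D : SobPt X} (h : D.carrier ≤ C.carrier) : C ⤳ D := by
  refine specializes_iff_forall_open.2 ?_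
  rintro _ ⟨V, rfl⟩ ⟨x, hx, hxV⟩
  exact ⟨x, h hx, hxV⟩

theorem epi_push_sobMap {F F' : CohTop.Ab X} (g : F ⟶ F') [Epi g] :
    Epi ((CohTop.push (sobMap X)).map g) := by
  refine (CategoryTheory.Sheaf.isLocallySurjective_iff_epi' (φ := (CohTop.push (sobMap X)).map g)).1 ?_
  refine (TopCat.Presheaf.isLocallySurjective_iff ((CohTop.push (sobMap X)).map g).hom).2 fun V s C hC => ?_
  obtain ⟨U₀, rfl⟩ := eq_sobOpen V
  obtain ⟨x, hxC, hxU⟩ := hC
  have hx' : x ∈ (Opens.map (sobMap X)).obj (sobOpen U₀) := by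
    rw [sobMap_preimage]
    exact hxU
  obtain ⟨U', hU', ⟨t, ht⟩, hxU'⟩ := (TopCat.Presheaf.isLocallySurjective_iff g.hom).mp
    ((CategoryTheory.Sheaf.isLocallySurjective_iff_epi' (φ := g)).mpr inferInstance) _ s x hx'
  have hle : sobOpen U' ≤ sobOpen U₀ := fun D ⟨y, hy, hyU⟩ =>
    ⟨y, hy, (sobMap_preimage U₀).le (hU' hyU)⟩
  have hle' : (Opens.map (sobMap X)).obj (sobOpen U') ≤ U' := (sobMap_preimage U').le
  refine ⟨sobOpen U', hle, ⟨QCohBase.res F.obj hle' t, ?_⟩, ⟨x, hxC, hxU'⟩⟩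
  refine (nat_res F.obj g.hom hle' t).symm.trans ?_
  refine (congrArg (QCohBase.res F'.obj hle') ht).trans ?_
  exact res_res F'.obj hU' hle' s

theorem sobPushZero {X Y : TopCat.{u}} (f : X ⟶ Y) : (CohTop.push f).PreservesZeroMorphisms :=
  inferInstance

theorem nonempty_H_sob (F : CohTop.Ab X) (n : ℕ) :
    Nonempty (CohTop.H F n ≃+ CohTop.H ((CohTop.push (sobMap X)).obj F) n) := by
  haveI : (CohTop.push (sobMap X)).PreservesZeroMorphisms := sobPushZero (sobMap X)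
  have hP : GoodClass (CohTop.push (sobMap X)) (⊤ : Opens (TopCat.of (SobPt X))) (fun _ => True) :=
    { coker := fun _ _ _ => trivial
      exact := fun {T} hT _ _ =>
        haveI := hT.epi_g
        QCohBase.shortExact_push (sobMap X) hT (epi_push_sobMap T.g)
      acyclic := fun I hI m =>
        haveI := hI
        haveI := injective_push (sobMap X) I
        subsingleton_HU_injective _ m ⊤ }
  obtain ⟨e⟩ := nonempty_HU_equiv (G := CohTop.push (sobMap X)) (U := ⊤) (V := ⊤)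
    (fun F => AddEquiv.refl _) (fun _ _ => rfl) hP (F := F) trivial n
  exact ⟨(hTopEquiv F n).trans (e.trans (hTopEquiv _ n).symm)⟩

end Groth.Agent.SpecVanish
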