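import Groth.Agent.SpecVanish.Devissage
import Groth.Agent.SpecVanish.Sober

/-! # Grothendieck vanishing on Noetherian topological spaces -/

set_option autoImplicit false
set_option linter.style.haveILetI false

noncomputable section

universe u

open CategoryTheory CategoryTheory.Limits TopologicalSpace Opposite

namespace Groth.Agent.SpecVanish

variable {X : TopCat.{u}}

theorem dimLT_sob (d : ℕ) (hd : topologicalKrullDim X ≤ d) :
    DimLT (d + 1) (Set.univ : Set (SobPt X)) := by
  rintro ⟨f, -, hs⟩
  let p : LTSeries (IrreducibleCloseds X) :=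
    { length := d + 1
      toFun := fun i => (f i.rev).carrier
      step := fun i => by
        have h := hs i.rev
        rw [← Fin.rev_succ, ← Fin.rev_castSucc] at h
        show (f i.castSucc.rev).carrier < (f i.succ.rev).carrier
        exact lt_iff_le_not_ge.2 ⟨sob_specializes h.1, fun hle => h.2 (sob_specializes_of_le hle)⟩ }
  have h := (Order.LTSeries.length_le_krullDim p).trans hd
  exact absurd (by exact_mod_cast h : d + 1 ≤ d) (by omega)

theorem grothendieck_vanishing [NoetherianSpace X] (d : ℕ) (hd : topologicalKrullDim X ≤ d)
    (F : CohTop.Ab X) (p : ℕ) (hp : d < p) : Subsingleton (CohTop.H F p) := by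
  haveI : SpectralSpace (TopCat.of (SobPt X)) := sob_spectral
  obtain ⟨e⟩ := nonempty_H_sob F p
  haveI := (main (X := TopCat.of (SobPt X)) (d + 1) Set.univ isClosed_univ (dimLT_sob d hd)
    ((CohTop.push (sobMap X)).obj F) (fun x hx => absurd (Set.mem_univ x) hx)).1
    ⊤ isCompact_univ p (by omega)
  haveI := (CohTopLib.subsingleton_H_iff ((CohTop.push (sobMap X)).obj F) p).2 inferInstance
  exact e.injective.subsingleton

end Groth.Agent.SpecVanish
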