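import Groth.Agent.SpecVanish.Godement
import Groth.Agent.SpecCohLib.Colim
import Groth.Agent.LocCohZLib.Sect
import Groth.Agent.CohTopLib.Neg
import Mathlib.CategoryTheory.Abelian.GrothendieckCategory.Subobject
import Mathlib.CategoryTheory.Sites.Abelian
import Mathlib.Topology.KrullDimension
import Mathlib.Topology.Sober
import Mathlib.CategoryTheory.Filtered.Connected

/-! # Dévissage: sheaves supported in small dimension on a spectral space -/

set_option autoImplicit false
set_option linter.style.haveILetI false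

noncomputable section

universe u

open CategoryTheory CategoryTheory.Limits TopologicalSpace Opposite
open scoped Topology

namespace Groth.Agent.SpecVanish

open QCohBase CohTopLib Godement LocCohZLib

/-- `Z` has no strict chain of specializations with `n + 1` points. -/
def DimLT {X : Type*} [TopologicalSpace X] (n : ℕ) (Z : Set X) : Prop :=
  ¬ ∃ f : Fin (n + 1) → X, (∀ i, f i ∈ Z) ∧
    ∀ i : Fin n, f i.castSucc ⤳ f i.succ ∧ ¬ f i.succ ⤳ f i.castSucc

lemma eq_empty_of_dimLT_zero {X : Type*} [TopologicalSpace X] {Z : Set X} (h : DimLT 0 Z) :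
    Z = ∅ :=
  Set.eq_empty_iff_forall_notMem.2 fun x hx => h ⟨fun _ => x, fun _ => hx, fun i => i.elim0⟩

lemma dimLT_of_nonmax {X : TopCat.{u}} [T0Space X] {n : ℕ} {Z Z' : Set X} (hZ : DimLT (n + 1) Z)
    (hle : Z' ⊆ Z) (hmax : ∀ η, IsMax Z η → η ∉ Z') : DimLT n Z' := by
  rintro ⟨f, hf, hs⟩
  have h0 : ¬ IsMax Z (f 0) := fun h => hmax _ h (hf 0)
  simp only [IsMax, not_and, not_forall] at h0
  obtain ⟨y, hyZ, hy, hne⟩ := h0 (hle (hf 0))
  refine hZ ⟨Fin.cons y f, fun i => ?_, fun i => ?_⟩
  · induction i using Fin.cases with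
    | zero => exact hyZ
    | succ i => exact hle (hf i)
  · induction i using Fin.cases with
    | zero =>
      simp only [Fin.castSucc_zero, Fin.cons_zero, Fin.cons_succ]
      exact ⟨hy, fun h => hne (hy.antisymm h).eq⟩
    | succ i =>
      simp only [Fin.castSucc_succ, Fin.cons_succ]
      exact hs i

lemma dimLT_of_topologicalKrullDim_le {X : Type*} [TopologicalSpace X] (d : ℕ)
    (hd : topologicalKrullDim X ≤ d) : DimLT (d + 1) (Set.univ : Set X) := by
  rintro ⟨f, -, hs⟩
  let p : LTSeries (IrreducibleCloseds X) :=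
    { length := d + 1
      toFun := fun i => ⟨closure {f i.rev}, isIrreducible_singleton.closure, isClosed_closure⟩
      step := fun i => by
        have h := hs i.rev
        rw [← Fin.rev_succ, ← Fin.rev_castSucc] at h
        show (⟨closure {f i.castSucc.rev}, isIrreducible_singleton.closure, isClosed_closure⟩ :
          IrreducibleCloseds X) < ⟨closure {f i.succ.rev}, isIrreducible_singleton.closure,
            isClosed_closure⟩
        refine lt_iff_le_not_ge.2 ⟨?_, ?_⟩
        · exact closure_minimal (Set.singleton_subset_iff.2 h.1.mem_closure) isClosed_closure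
        · intro hle
          exact h.2 (specializes_iff_mem_closure.2 (hle (subset_closure rfl))) }
  have h := (Order.LTSeries.length_le_krullDim p).trans hd
  exact absurd (by exact_mod_cast h : d + 1 ≤ d) (by omega)

variable {X : TopCat.{u}}

lemma isZero_of_suppIn_empty {F : CohTop.Ab X} (h : SuppIn (∅ : Set X) F) : IsZero F :=
  isZero_of_germ fun V s x hx => h x (Set.notMem_empty x) _

lemma subsingleton_HU_of_isZero {F : CohTop.Ab X} (hF : IsZero F) (n : ℕ) (U : Opens X) :
    Subsingleton (CohTop.HU F n U) :=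
  subsingleton_of_forall_eq 0 fun x => by
    refine (Abelian.Ext.comp_mk₀_id x).symm.trans ?_
    rw [hF.eq_of_src (𝟙 F) 0, Abelian.Ext.mk₀_zero]
    exact Abelian.Ext.comp_zero _ _ _ _ _

lemma HUmap_eq {F F' : CohTop.Ab X} (f : F ⟶ F') (n : ℕ) (U : Opens X) (x : CohTop.HU F n U) :
    CohTop.HUmap f n U x = Abelian.Ext.comp x (Abelian.Ext.mk₀ f) (add_zero n) := rfl

lemma HUmap_res {F F' : CohTop.Ab X} (f : F ⟶ F') (n : ℕ) {U V : Opens X} (h : V ≤ U)
    (x : CohTop.HU F n U) :
    CohTop.HUmap f n V (CohTop.res F n h x) = CohTop.res F' n h (CohTop.HUmap f n U x) :=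
  (ConcreteCategory.congr_hom (((Sheaf.cohomologyPresheafFunctor.{u} (Opens.grothendieckTopology X) n).map
    f).naturality (homOfLE h).op) x)

section Colimit

variable {Z : Set X} {C : CohTop.Ab X}

/-- Opens containing the complement and the maximal points of `Z`, ordered by reverse inclusion. -/
abbrev Idx (Z : Set X) : Type u := {U : Opens X // ∀ x, x ∉ Z ∨ IsMax Z x → x ∈ U}ᵒᵈ

instance : Nonempty (Idx Z) := ⟨OrderDual.toDual ⟨⊤, fun _ _ => trivial⟩⟩

instance : IsDirectedOrder (Idx Z) :=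
  ⟨fun a b => ⟨OrderDual.toDual ⟨(OrderDual.ofDual a).1 ⊓ (OrderDual.ofDual b).1,
    fun x hx => ⟨(OrderDual.ofDual a).2 x hx, (OrderDual.ofDual b).2 x hx⟩⟩,
    show (_ : Opens X) ≤ (OrderDual.ofDual a).1 from inf_le_left,
    show (_ : Opens X) ≤ (OrderDual.ofDual b).1 from inf_le_right⟩⟩

lemma suppMap_cond (C : CohTop.Ab X) {U U' : Opens X} (h : U' ≤ U) :
    (iota U).app C ≫ (eta U').app C = 0 := by
  refine CategoryTheory.Sheaf.hom_ext (NatTrans.ext (funext fun W => ?_))
  refine AddCommGrpCat.ext fun t => ?_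
  refine (eta_app_eq_zero_iff U' C (sSupp U C W.unop t)).2 ?_
  have hle : W.unop ⊓ U' ≤ W.unop ⊓ U := inf_le_inf_left _ h
  refine (QCohBase.res_res C.obj (inf_le_left : W.unop ⊓ U ≤ W.unop) hle _).symm.trans ?_
  exact (congrArg _ (res_sSupp U C t)).trans (map_zero _)

/-- The system of subsheaves with support in `Uᶜ`. -/
def suppDiagram (Z : Set X) (C : CohTop.Ab X) : Idx Z ⥤ CohTop.Ab X where
  obj a := (LocCohZ.sectSuppF (OrderDual.ofDual a).1).obj C
  map {a b} h := kernel.lift _ ((iota (OrderDual.ofDual a).1).app C) (suppMap_cond C (leOfHom h))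
  map_id a := (cancel_mono (kernel.ι _)).1 ((kernel.lift_ι _ _ _).trans (Category.id_comp _).symm)
  map_comp {a b c} f g := (cancel_mono (kernel.ι _)).1 ((kernel.lift_ι _ _ _).trans
    ((Category.assoc _ _ _).trans ((congrArg (_ ≫ ·) (kernel.lift_ι _ _ _)).trans
      (kernel.lift_ι _ _ _))).symm)

/-- The cocone of inclusions. -/
def suppCocone (Z : Set X) (C : CohTop.Ab X) : Cocone (suppDiagram Z C) where
  pt := C
  ι :=
    { app := fun a => (iota (OrderDual.ofDual a).1).app C
      naturality := fun a b h => (kernel.lift_ι _ _ _).trans (Category.comp_id _).symm }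

lemma suppIn_sectSupp (U : Opens X) (C : CohTop.Ab X) :
    SuppIn ((U : Set X)ᶜ) ((LocCohZ.sectSuppF U).obj C) := by
  intro x hx t
  obtain ⟨W, hxW, t, rfl⟩ := exists_germ_eq _ t
  have hxU : x ∈ U := not_not.1 hx
  refine (germ_res _ (inf_le_left : W ⊓ U ≤ W) x ⟨hxW, hxU⟩ t).symm.trans ?_
  have : QCohBase.res ((LocCohZ.sectSuppF U).obj C).obj (inf_le_left : W ⊓ U ≤ W) t = 0 := by
    refine sSupp_injective U C _ ?_
    refine (sSupp_res U C _ t).trans ?_
    exact (res_sSupp U C t).trans (map_zero _).symm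
  exact (congrArg _ this).trans (map_zero _)

variable [SpectralSpace X]

theorem exists_isColimit_suppCocone (hZ : IsClosed Z) (hC : SuppIn Z C)
    (hmax : ∀ η, IsMax Z η → ∀ t : CohTop.stalk C η, t = 0) :
    Nonempty (IsColimit (suppCocone Z C)) := by
  let f : colimit (suppDiagram Z C) ⟶ C := colimit.desc _ (suppCocone Z C)
  haveI : IsConnected (Idx Z) := IsFiltered.isConnected _
  haveI hmono : Mono f := by
    let α : suppDiagram Z C ⟶ (Functor.const _).obj C := (suppCocone Z C).ι
    haveI : ∀ a, Mono (α.app a) := fun a =>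
      inferInstanceAs (Mono (kernel.ι ((eta (OrderDual.ofDual a).1).app C)))
    haveI := NatTrans.mono_of_mono_app α
    exact colim.map_mono' α (colimit.isColimit _) (isColimitConstCocone _ C) f
      (fun a => (colimit.ι_desc (suppCocone Z C) a).trans (Category.comp_id _).symm)
  haveI hepi : Epi f := by
    refine (CategoryTheory.Sheaf.isLocallySurjective_iff_epi' (φ := f)).1 ?_
    refine (TopCat.Presheaf.isLocallySurjective_iff f.hom).2 fun W s x hxW => ?_
    obtain ⟨W₀, ⟨hW₀o, hW₀c⟩, hxW₀, hW₀W⟩ :=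
      (PrespectralSpace.isTopologicalBasis (X := X)).exists_subset_of_mem_open hxW W.2
    let W' : Opens X := ⟨W₀, hW₀o⟩
    have hle : W' ≤ W := hW₀W
    let s' := QCohBase.res C.obj hle s
    let E : Set X := {y | ∃ hy : y ∈ W', germ C W' y hy s' ≠ 0}
    let O : Set X := {y | ∃ hy : y ∈ W', germ C W' y hy s' = 0}
    have hO : IsOpen O := by
      refine isOpen_iff_forall_mem_open.2 ?_
      rintro y ⟨hy, h0⟩
      obtain ⟨N, hyN, hN, e⟩ := exists_res_eq_zero hy h0
      refine ⟨(N : Set X), fun z hz => ⟨hN hz, ?_⟩, N.2, hyN⟩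
      exact (germ_res C hN z hz s').symm.trans ((congrArg _ e).trans (map_zero _))
    have hE : E = W₀ \ O := by
      ext y
      exact ⟨fun ⟨hy, h⟩ => ⟨hy, fun ⟨_, h0⟩ => h h0⟩, fun ⟨hy, h⟩ => ⟨hy, fun h0 => h ⟨hy, h0⟩⟩⟩
    have hEc : IsClosed[constructibleTopology X] E := by
      rw [hE]
      exact @IsClosed.inter X _ _ (constructibleTopology X)
        (Spectral.isClopen_con_of_isOpen_isCompact hW₀o hW₀c).1
        (Spectral.isClosed_con_of_isClosed hO.isClosed_compl)
    have hEZ : E ⊆ Z := fun y ⟨hy, h⟩ => by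
      by_contra hyZ
      exact h (hC y hyZ _)
    let U : Opens X := ⟨(closure E)ᶜ, isClosed_closure.isOpen_compl⟩
    have hU : ∀ y, y ∉ Z ∨ IsMax Z y → y ∈ U := by
      rintro y (hy | hy) hcl
      · exact hy (closure_minimal hEZ hZ hcl)
      · obtain ⟨e, he, hey⟩ := Spectral.exists_specializes_of_mem_closure hEc hcl
        obtain rfl := hy.2 e (hEZ he) hey
        obtain ⟨_, hne⟩ := he
        exact hne (hmax _ hy _)
    let a : Idx Z := OrderDual.toDual ⟨U, hU⟩
    have hres : QCohBase.res C.obj (inf_le_left : W' ⊓ U ≤ W') s' = 0 := by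
      refine TopCat.Presheaf.section_ext C _ _ _ fun y hy => ?_
      refine ((germ_res C (inf_le_left : W' ⊓ U ≤ W') y hy s').trans ?_).trans (map_zero _).symm
      by_contra h
      exact hy.2 (subset_closure ⟨hy.1, h⟩)
    obtain ⟨t, ht⟩ := (exists_sSupp_iff U C s').2 hres
    refine ⟨W', hle, ⟨(colimit.ι (suppDiagram Z C) a).hom.app (op W') t, ?_⟩, hxW₀⟩
    refine Eq.trans ?_ ht
    exact ConcreteCategory.congr_hom
      (congrArg (fun m : (suppDiagram Z C).obj a ⟶ C => m.hom.app (op W'))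
        (colimit.ι_desc (suppCocone Z C) a)) t
  haveI : IsIso f := isIso_of_mono_of_epi f
  exact ⟨IsColimit.ofPointIso (i := ‹IsIso f›) (colimit.isColimit _)⟩

theorem exists_stage {n : ℕ} (hZ : IsClosed Z) (hdim : DimLT (n + 1) Z) (hC : SuppIn Z C)
    (hmax : ∀ η, IsMax Z η → ∀ t : CohTop.stalk C η, t = 0) {U : Opens X}
    (hU : IsCompact (U : Set X)) (q : ℕ) (x : CohTop.HU C q U) :
    ∃ (Z' : Set X) (C' : CohTop.Ab X) (g : C' ⟶ C) (y : CohTop.HU C' q U),
      IsClosed Z' ∧ DimLT n Z' ∧ SuppIn Z' C' ∧ CohTop.HUmap g q U y = x := by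
  obtain ⟨hc⟩ := exists_isColimit_suppCocone hZ hC hmax
  haveI := SpecCohLib.preservesColimits_HU U hU (Idx Z) q
  let K := (Sheaf.cohomologyPresheafFunctor.{u} (Opens.grothendieckTopology X) q).flip.obj (op U)
  obtain ⟨a, y, hy⟩ := Concrete.isColimit_exists_rep _ (isColimitOfPreserves K hc) x
  refine ⟨((OrderDual.ofDual a).1 : Set X)ᶜ, _, (iota (OrderDual.ofDual a).1).app C, y,
    (OrderDual.ofDual a).1.2.isClosed_compl, ?_, suppIn_sectSupp _ C, hy⟩
  refine dimLT_of_nonmax hdim (fun z hz => ?_) (fun η hη hz => hz ((OrderDual.ofDual a).2 η (Or.inr hη)))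
  by_contra hzZ
  exact hz ((OrderDual.ofDual a).2 z (Or.inl hzZ))

end Colimit

variable [SpectralSpace X]

/-- The canonical short exact sequence `0 → F → c_* c^* F → C → 0`. -/
abbrev uSC (F : CohTop.Ab X) : ShortComplex (CohTop.Ab X) :=
  ShortComplex.mk (u F) (cokernel.π (u F)) (cokernel.condition _)

lemma uSC_shortExact (F : CohTop.Ab X) : (uSC F).ShortExact :=
  haveI : Mono (uSC F).f := mono_u F
  haveI : Epi (uSC F).g := inferInstanceAs (Epi (cokernel.π _))
  { exact := ShortComplex.exact_of_g_is_cokernel _ (cokernelIsCokernel _) }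

lemma exists_stalk_lift (F : CohTop.Ab X) (x : X) (t : CohTop.stalk (uSC F).X₃ x) :
    ∃ r, stalkMap (uSC F).g x r = t := by
  obtain ⟨W, hxW, s, rfl⟩ := exists_germ_eq _ t
  obtain ⟨W', hle, ⟨r, hr⟩, hxW'⟩ := (TopCat.Presheaf.isLocallySurjective_iff (uSC F).g.hom).mp
    ((CategoryTheory.Sheaf.isLocallySurjective_iff_epi' (φ := (uSC F).g)).mpr
      (uSC_shortExact F).epi_g) W s x hxW
  refine ⟨germ _ W' x hxW' r, (stalkMap_germ _ W' x hxW' r).trans ?_⟩
  exact (congrArg _ hr).trans (germ_res _ hle x hxW' s)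

lemma cokernel_props {Z : Set X} (hZ : IsClosed Z) {F : CohTop.Ab X} (hF : SuppIn Z F) :
    SuppIn Z (uSC F).X₃ ∧ ∀ η, IsMax Z η → ∀ t : CohTop.stalk (uSC F).X₃ η, t = 0 := by
  refine ⟨fun x hx t => ?_, fun η hη t => ?_⟩
  · obtain ⟨r, rfl⟩ := exists_stalk_lift F x t
    exact (congrArg _ (suppIn_G hZ hF x hx r)).trans (map_zero _)
  · obtain ⟨r, rfl⟩ := exists_stalk_lift F η t
    obtain ⟨r, rfl⟩ := stalkMap_u_surjective hZ hF hη r
    obtain ⟨W, hW, s, rfl⟩ := exists_germ_eq F r
    refine (congrArg _ (stalkMap_germ (u F) W η hW s)).trans ((stalkMap_germ _ W η hW _).trans ?_)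
    refine (congrArg _ ?_).trans (map_zero _)
    exact ConcreteCategory.congr_hom
      (congrArg (fun m : F ⟶ (uSC F).X₃ => m.hom.app (op W)) (uSC F).zero) s

theorem sections_G_surjective (F : CohTop.Ab X) {U V : Opens X} (h : U ≤ V)
    (hU : IsCompact (U : Set X)) :
    Function.Surjective (QCohBase.res (G F).obj h) := by
  intro s
  let F' := (CohTop.pull (c X)).obj F
  let U' : Opens (Xc X) := (Opens.map (c X)).obj U
  let V' : Opens (Xc X) := (Opens.map (c X)).obj V
  let D : Bool → Opens (Xc X) := fun b =>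
    if b then U' else V' ⊓ ⟨(U' : Set (Xc X))ᶜ, (isClopen_preimage hU).1.isOpen_compl⟩
  have hD : ∀ b, D b ≤ V' := by
    rintro (_ | _)
    exacts [inf_le_left, fun y hy => h hy]
  let sf : ∀ b, F'.obj.obj (op (D b)) := fun b =>
    match b with
    | true => s
    | false => 0
  have hdis : ∀ b b', b ≠ b' → ∀ y, y ∉ (D b ⊓ D b' : Opens (Xc X)) := by
    rintro (_ | _) (_ | _) hbb y ⟨h1, h2⟩
    exacts [hbb rfl, h1.2 h2, h2.2 h1, hbb rfl]
  have hcompat : TopCat.Presheaf.IsCompatible F'.obj D sf := fun b b' => by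
    by_cases hbb : b = b'
    · subst hbb; rfl
    · exact (subsingleton_sections_bot F' (hdis b b' hbb)).elim _ _
  obtain ⟨t, ht, -⟩ := TopCat.Sheaf.existsUnique_gluing' F' D V' (fun b => homOfLE (hD b))
    (fun y hy => by
      by_cases hyU : y ∈ U'
      · exact Opens.mem_iSup.2 ⟨true, hyU⟩
      · exact Opens.mem_iSup.2 ⟨false, hy, hyU⟩) sf hcompat
  exact ⟨t, ht true⟩

/-- Vanishing and top-degree surjectivity for sheaves supported in dimension `< n`. -/
theorem main : ∀ (n : ℕ) (Z : Set X), IsClosed Z → DimLT n Z → ∀ F : CohTop.Ab X, SuppIn Z F →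
    (∀ U : Opens X, IsCompact (U : Set X) → ∀ p, n ≤ p → Subsingleton (CohTop.HU F p U)) ∧
    (∀ U V : Opens X, IsCompact (U : Set X) → IsCompact (V : Set X) → ∀ (h : U ≤ V) (m : ℕ),
      m + 1 = n → Function.Surjective (CohTop.res F m h)) := by
  intro n
  induction n with
  | zero =>
    intro Z _ hdim F hF
    rw [eq_empty_of_dimLT_zero hdim] at hF
    exact ⟨fun U _ p _ => subsingleton_HU_of_isZero (isZero_of_suppIn_empty hF) p U,
      fun U V _ _ h m hm => absurd hm (by omega)⟩
  | succ n ih =>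
    intro Z hZ hdim F hF
    obtain ⟨hCs, hCm⟩ := cokernel_props hZ hF
    have hT := uSC_shortExact F
    have hCvan : ∀ (W : Opens X), IsCompact (W : Set X) → ∀ q, n ≤ q →
        Subsingleton (CohTop.HU (uSC F).X₃ q W) := fun W hW q hq =>
      subsingleton_of_forall_eq 0 fun x => by
        obtain ⟨Z', C', g, y, hZ', hd', hs', rfl⟩ := exists_stage hZ hdim hCs hCm hW q x
        haveI := (ih Z' hZ' hd' C' hs').1 W hW q hq
        rw [Subsingleton.elim y 0, map_zero]
    refine ⟨fun U hU p hp => ?_, fun U V hU hV h m hm => ?_⟩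
    · obtain ⟨q, rfl⟩ : ∃ q, p = q + 1 := ⟨p - 1, by omega⟩
      haveI := hCvan U hU q (by omega)
      exact (huDelta_surjective hT q U (subsingleton_HU_push _ hU q)).subsingleton
    · obtain rfl : m = n := by omega
      cases m with
      | zero =>
        intro x
        let s := hu0 F U x
        obtain ⟨r, hr⟩ := sections_G_surjective F h hU ((u F).hom.app (op U) s)
        have hr0 : (uSC F).g.hom.app (op V) r = 0 := by
          haveI := hCvan V hV 0 le_rfl
          exact (hu0 (uSC F).X₃ V).symm.injective (Subsingleton.elim _ _)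
        haveI : Mono (uSC F).f := mono_u F
        let E : CohTop.Ab X ⥤ AddCommGrpCat.{u} :=
          sheafToPresheaf (Opens.grothendieckTopology X) AddCommGrpCat.{u} ⋙
            (evaluation _ AddCommGrpCat.{u}).obj (op V)
        haveI : E.PreservesZeroMorphisms := inferInstance
        have hlf := ((ShortComplex.exact_and_mono_f_iff_f_is_kernel ((uSC F).map E)).2
          ⟨KernelFork.mapIsLimit _ hT.fIsKernel E⟩)
        obtain ⟨t, ht⟩ := (ShortComplex.ab_exact_iff _).1 hlf.1 r hr0
        refine ⟨(hu0 F V).symm t, (hu0 F U).injective ?_⟩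
        refine (hu0_res h _).trans ?_
        rw [(hu0 F V).apply_symm_apply]
        let E' : CohTop.Ab X ⥤ AddCommGrpCat.{u} :=
          sheafToPresheaf (Opens.grothendieckTopology X) AddCommGrpCat.{u} ⋙
            (evaluation _ AddCommGrpCat.{u}).obj (op U)
        haveI : E'.PreservesZeroMorphisms := inferInstance
        have hlf' := ((ShortComplex.exact_and_mono_f_iff_f_is_kernel ((uSC F).map E')).2
          ⟨KernelFork.mapIsLimit _ hT.fIsKernel E'⟩)
        refine (AddCommGrpCat.mono_iff_injective _).1 hlf'.2 ?_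
        refine Eq.trans ?_ hr
        exact (nat_res F.obj (u F).hom h t).symm.trans (congrArg (QCohBase.res (G F).obj h) ht)
      | succ k =>
        intro x
        obtain ⟨z, rfl⟩ := huDelta_surjective hT k U (subsingleton_HU_push _ hU k) x
        obtain ⟨Z', C', g, y, hZ', hd', hs', rfl⟩ := exists_stage hZ hdim hCs hCm hU k z
        obtain ⟨y', rfl⟩ := (ih Z' hZ' hd' C' hs').2 U V hU hV h k rfl y
        refine ⟨huDelta hT k V (CohTop.HUmap g k V y'), ?_⟩
        exact (huDelta_res hT k h _).trans (congrArg _ (HUmap_res g k h y').symm)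

end Groth.Agent.SpecVanish
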