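import Groth.Agent.SpecVanish.Nbhd
import Groth.Agent.SoftSheaf.BaseChange

/-! # Generalizations of compact subsets, and stalks of higher direct images of spectral maps -/

set_option autoImplicit false
set_option linter.style.haveILetI false

noncomputable section

universe u

open CategoryTheory CategoryTheory.Limits TopologicalSpace Opposite
open scoped Topology

namespace Groth.Agent.SpecVanish

open Godement CohTopLib
open SoftSheaf (toH toH_res nonempty_colimit_equiv isFiltered_nbhd cohPre shStalk)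

variable {X : TopCat.{u}} [SpectralSpace X]

/-- The inclusion of a subset. -/
abbrev subIncl (W : Set X) : TopCat.of W ⟶ X := TopCat.ofHom ⟨Subtype.val, continuous_subtype_val⟩

theorem isProGen_subIncl {W : Set X} {ι : Type u} [Nonempty ι] (K : ι → Set X)
    (hK : ∀ a, IsOpen (K a) ∧ IsCompact (K a)) (hdir : Directed (· ⊇ ·) K) (hW : W = ⋂ a, K a) :
    IsProGen (subIncl W) := by
  refine ⟨Topology.IsInducing.subtypeVal, fun A O hA hAO => ?_⟩
  let S : ι → Set (WithConstructibleTopology X) := fun a => Spectral.ofCon ⁻¹' K a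
  have hAO' : IsCompact (Spectral.ofCon ⁻¹' ((A : Set X) \ O) : Set (WithConstructibleTopology X)) := by
    refine IsClosed.isCompact ?_
    exact (Spectral.isClopen_preimage_ofCon A.2 hA).1.inter
      (Spectral.isClosed_preimage_ofCon.2 (Spectral.isClosed_con_of_isClosed O.2.isClosed_compl))
  obtain ⟨a, ha⟩ := hAO'.elim_directed_family_closed S
    (fun a => (Spectral.isClopen_preimage_ofCon (hK a).1 (hK a).2).1)
    (Set.eq_empty_iff_forall_notMem.2 fun x ⟨hx, hx'⟩ => by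
      have hxW : Spectral.ofCon x ∈ W := hW.symm ▸ Set.mem_iInter.2 fun a => Set.mem_iInter.1 hx' a
      exact hx.2 (hAO ⟨_, hxW⟩ hx.1))
    (fun a b => by
      obtain ⟨c, hca, hcb⟩ := hdir a b
      exact ⟨c, Set.preimage_mono hca, Set.preimage_mono hcb⟩)
  refine ⟨⟨K a, (hK a).1⟩, fun z => ?_, fun x ⟨hxK, hxA⟩ => ?_⟩
  · exact Set.mem_iInter.1 (hW.subset z.2) a
  · by_contra hxO
    obtain ⟨y, rfl⟩ := Spectral.ofCon_surjective x
    exact Set.eq_empty_iff_forall_notMem.1 ha y ⟨⟨hxA, hxO⟩, hxK⟩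

theorem isClosed_con_iInter {ι : Type u} (K : ι → Set X) (hK : ∀ a, IsOpen (K a) ∧ IsCompact (K a)) :
    IsClosed[constructibleTopology X] (⋂ a, K a) :=
  @isClosed_iInter X ι (constructibleTopology X) K fun a =>
    (Spectral.isClopen_con_of_isOpen_isCompact (hK a).1 (hK a).2).1

theorem spectralSpace_iInter {W : Set X} {ι : Type u} (K : ι → Set X)
    (hK : ∀ a, IsOpen (K a) ∧ IsCompact (K a)) (hW : W = ⋂ a, K a) :
    SpectralSpace (TopCat.of W) := by
  subst hW
  exact Spectral.spectralSpace_of_isClosed_con (isClosed_con_iInter K hK)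

theorem generalization_colimit (E : Set X) (hE : IsCompact E) (F : CohTop.Ab X) (p : ℕ) :
    Nonempty ((colimit (ObjectProperty.ι (fun U : (Opens X)ᵒᵖ => E ⊆ (U.unop : Set X) ∧ IsCompact (U.unop : Set X)) ⋙
        (Sheaf.cohomologyPresheafFunctor (Opens.grothendieckTopology X) p).obj F) : AddCommGrpCat.{u}) ≃+
      CohTop.H ((CohTop.pull (subIncl {x : X | ∃ e ∈ E, e ∈ closure {x}})).obj F) p) := by
  let P : ObjectProperty (Opens X)ᵒᵖ := fun U => E ⊆ (U.unop : Set X) ∧ IsCompact (U.unop : Set X)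
  let W : Set X := {x : X | ∃ e ∈ E, e ∈ closure {x}}
  let i := subIncl W
  let ι := {U : Opens X // E ⊆ (U : Set X) ∧ IsCompact (U : Set X)}
  let K : ι → Set X := fun U => (U.1 : Set X)
  haveI : Nonempty ι := ⟨⟨⊤, Set.subset_univ _, isCompact_univ⟩⟩
  have hK : ∀ a, IsOpen (K a) ∧ IsCompact (K a) := fun a => ⟨a.1.2, a.2.2⟩
  have hinter : ∀ U V : Opens X, P (op U) → P (op V) → P (op (U ⊓ V)) := fun U V hU hV =>
    ⟨fun x hx => ⟨hU.1 hx, hV.1 hx⟩, QuasiSeparatedSpace.inter_isCompact _ _ U.2 hU.2 V.2 hV.2⟩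
  have hdir : Directed (· ⊇ ·) K := fun a b =>
    ⟨⟨a.1 ⊓ b.1, hinter a.1 b.1 a.2 b.2⟩, fun x hx => hx.1, fun x hx => hx.2⟩
  have hW : W = ⋂ a, K a := by
    have h1 : W = {x : X | ∃ e ∈ E, x ⤳ e} := by
      ext x
      simp only [W, Set.mem_ofPred_eq, specializes_iff_mem_closure]
    rw [h1, Spectral.generalization_eq_sInter hE]
    ext x
    constructor
    · exact fun h => Set.mem_iInter.2 fun a => Set.mem_sInter.1 h _ ⟨a.1.2, a.2.2, a.2.1⟩
    · exact fun h => Set.mem_sInter.2 fun U ⟨hUo, hUc, hEU⟩ => Set.mem_iInter.1 h ⟨⟨U, hUo⟩, hEU, hUc⟩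
  have hP : IsProGen i := isProGen_subIncl K hK hdir hW
  haveI : SpectralSpace (TopCat.of W) := spectralSpace_iInter K hK hW
  have hU : ∀ j : P.FullSubcategory, ∀ z, i z ∈ j.obj.unop := fun j z => by
    obtain ⟨e, he, hez⟩ := z.2
    exact (specializes_iff_mem_closure.2 hez).mem_open j.obj.unop.2 (j.property.1 he)
  haveI := isFiltered_nbhd P hinter ⟨Set.subset_univ _, isCompact_univ⟩
  have hsub : ∀ U : Opens X, (∀ z, i z ∈ U) → ∃ U' : Opens X, U' ≤ U ∧ P (op U') := fun U hUz => by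
    obtain ⟨V, hVc, hVo, hEV, hVU⟩ := PrespectralSpace.exists_isCompact_and_isOpen_between hE U.2
      (fun e he => hUz ⟨e, e, he, subset_closure rfl⟩)
    exact ⟨⟨V, hVo⟩, hVU, hEV, hVc⟩
  obtain ⟨e, -⟩ := nonempty_colimit_equiv
    (P.ι ⋙ (Sheaf.cohomologyPresheafFunctor (Opens.grothendieckTopology X) p).obj F)
    (CohTop.HU ((CohTop.pull i).obj F) p ⊤) (fun j => toH (unitCoh i F) p j.obj.unop (hU j))
    (fun {j k} f x => toH_res (unitCoh i F) p f.hom.unop.le (hU k) x)
    (fun a => by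
      obtain ⟨U, hUz, x, hx⟩ := exists_toH_eq (unitCoh i F) (bijective_stalk_unit i F) hP p a
      obtain ⟨U', hle, hU'⟩ := hsub U hUz
      exact ⟨⟨op U', hU'⟩, CohTop.res F p hle x, (toH_res (unitCoh i F) p hle (hU ⟨op U', hU'⟩) x).trans hx⟩)
    (fun j x hx => by
      obtain ⟨U', hle, hU', h⟩ := exists_res_eq_zero_of_toH (unitCoh i F) (bijective_stalk_unit i F) hP p
        (hU j) x hx
      obtain ⟨U'', hle', hU''⟩ := hsub U' hU'
      refine ⟨⟨op U'', hU''⟩, ObjectProperty.homMk (homOfLE (hle'.trans hle)).op, ?_⟩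
      change CohTop.res F p (hle'.trans hle) x = 0
      exact (res_res' F p hle hle' x).symm.trans ((congrArg (CohTop.res F p hle') h).trans (map_zero _)))
  exact ⟨e.trans (hTopEquiv _ p).symm⟩

theorem stalk_Rpush_spectral {Y : TopCat.{u}} [SpectralSpace Y] (f : X ⟶ Y) (hf : IsSpectralMap f)
    (y : Y) (F : CohTop.Ab X) (p : ℕ) :
    Nonempty (CohTop.stalk ((CohTop.Rpush f p).obj F) y ≃+
      CohTop.H ((CohTop.pull (subIncl {x : X | y ∈ closure {f x}})).obj F) p) := by
  let W : Set X := {x : X | y ∈ closure {f x}}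
  let i := subIncl W
  let ι := {V : Opens Y // y ∈ V ∧ IsCompact (V : Set Y)}
  let K : ι → Set X := fun V => f ⁻¹' (V.1 : Set Y)
  haveI : Nonempty ι := ⟨⟨⊤, trivial, isCompact_univ⟩⟩
  have hK : ∀ a, IsOpen (K a) ∧ IsCompact (K a) := fun a =>
    ⟨a.1.2.preimage f.hom.continuous, hf.isCompact_preimage_of_isOpen a.1.2 a.2.2⟩
  have hdir : Directed (· ⊇ ·) K := fun a b =>
    ⟨⟨a.1 ⊓ b.1, ⟨a.2.1, b.2.1⟩, QuasiSeparatedSpace.inter_isCompact _ _ a.1.2 a.2.2 b.1.2 b.2.2⟩,
      fun x hx => hx.1, fun x hx => hx.2⟩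
  have hW : W = ⋂ a, K a := by
    ext x
    constructor
    · exact fun hx => Set.mem_iInter.2 fun a =>
        (specializes_iff_mem_closure.2 hx).mem_open a.1.2 a.2.1
    · intro hx
      refine specializes_iff_mem_closure.1 (specializes_iff_forall_open.2 fun s hs hys => ?_)
      obtain ⟨V, ⟨hVo, hVc⟩, hyV, hVs⟩ :=
        (PrespectralSpace.isTopologicalBasis (X := Y)).exists_subset_of_mem_open hys hs
      exact hVs (Set.mem_iInter.1 hx ⟨⟨V, hVo⟩, hyV, hVc⟩)
  have hP : IsProGen i := isProGen_subIncl K hK hdir hW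
  haveI : SpectralSpace (TopCat.of W) := spectralSpace_iInter K hK hW
  have hmem : ∀ {V : Opens Y}, y ∈ V → ∀ z, i z ∈ (Opens.map f).obj V := fun {V} hy z =>
    (specializes_iff_mem_closure.2 z.2).mem_open V.2 hy
  have htube : ∀ U : Opens X, (∀ z, i z ∈ U) → ∃ V : Opens Y, y ∈ V ∧ (Opens.map f).obj V ≤ U := by
    intro U hU
    let S : ι → Set (WithConstructibleTopology X) := fun a => Spectral.ofCon ⁻¹' K a
    obtain ⟨a, ha⟩ := (Spectral.isClosed_preimage_ofCon.2
      (Spectral.isClosed_con_of_isClosed U.2.isClosed_compl)).isCompact.elim_directed_family_closed S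
      (fun a => (Spectral.isClopen_preimage_ofCon (hK a).1 (hK a).2).1)
      (Set.eq_empty_iff_forall_notMem.2 fun x ⟨hx, hx'⟩ => by
        have hxW : Spectral.ofCon x ∈ W := by
          rw [hW]
          exact Set.mem_iInter.2 fun a => Set.mem_iInter.1 hx' a
        exact hx (hU ⟨_, hxW⟩))
      (fun a b => by
        obtain ⟨c, hca, hcb⟩ := hdir a b
        exact ⟨c, Set.preimage_mono hca, Set.preimage_mono hcb⟩)
    refine ⟨a.1, a.2.1, fun x hx => ?_⟩
    by_contra hxU
    obtain ⟨z, rfl⟩ := Spectral.ofCon_surjective x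
    exact Set.eq_empty_iff_forall_notMem.1 ha z ⟨hxU, hx⟩
  obtain ⟨e⟩ := CohTopLib.nonempty_Rpush_iso_sheafify f F p
  obtain ⟨ε, -⟩ := nonempty_colimit_equiv ((OpenNhds.inclusion y).op ⋙ cohPre f F p)
    (CohTop.HU ((CohTop.pull i).obj F) p ⊤)
    (fun j => toH (unitCoh i F) p ((Opens.map f).obj j.unop.1) (hmem j.unop.2))
    (fun {j k} g x => toH_res (unitCoh i F) p (pre_mono f g.unop.le) (hmem k.unop.2) x)
    (fun a => by
      obtain ⟨U, hUz, x, hx⟩ := exists_toH_eq (unitCoh i F) (bijective_stalk_unit i F) hP p a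
      obtain ⟨V, hy, hV⟩ := htube U hUz
      exact ⟨op ⟨V, hy⟩, CohTop.res F p hV x, (toH_res (unitCoh i F) p hV (hmem hy) x).trans hx⟩)
    (fun j x hx => by
      obtain ⟨U', hle, hU', h⟩ := exists_res_eq_zero_of_toH (unitCoh i F) (bijective_stalk_unit i F) hP p
        (hmem j.unop.2) x hx
      obtain ⟨V, hy, hV⟩ := htube U' hU'
      refine ⟨op ⟨j.unop.1 ⊓ V, ⟨j.unop.2, hy⟩⟩,
        (homOfLE (show (⟨j.unop.1 ⊓ V, ⟨j.unop.2, hy⟩⟩ : OpenNhds y) ≤ j.unop from inf_le_left (a := j.unop.1))).op, ?_⟩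
      show CohTop.res F p (pre_mono f inf_le_left) x = 0
      have hle' : (Opens.map f).obj (j.unop.1 ⊓ V) ≤ U' := (pre_mono f inf_le_right).trans hV
      exact (res_res' F p hle hle' x).symm.trans ((congrArg (CohTop.res F p hle') h).trans (map_zero _)))
  exact ⟨((((TopCat.Presheaf.stalkFunctor AddCommGrpCat.{u} y).mapIso
      ((sheafToPresheaf (Opens.grothendieckTopology Y) AddCommGrpCat.{u}).mapIso e)) ≪≫
      (shStalk (cohPre f F p) y).symm).addCommGroupIsoToAddEquiv).trans (ε.trans (hTopEquiv _ p).symm)⟩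

end Groth.Agent.SpecVanish
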