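import Groth.Agent.SpecVanish.FreeDevissage
import Mathlib.GroupTheory.SpecificGroups.Cyclic

/-! # Germs of free sheaves and the induction -/

set_option autoImplicit false
set_option linter.style.haveILetI false

noncomputable section

universe u

open CategoryTheory CategoryTheory.Limits TopologicalSpace Opposite

namespace Groth.Agent.SpecVanish

open QCohBase CohTopLib Godement

variable {X : TopCat.{u}}

theorem germ_free_cases (V : Opens X) (x : X) (t : CohTop.stalk (free V) x) :
    (x ∉ V → t = 0) ∧ ∀ hx : x ∈ V, ∃ k : ℤ, t = k • germ (free V) V x hx (gen V) := by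
  obtain ⟨W, hxW, s, rfl⟩ := exists_germ_eq _ t
  obtain ⟨W', hle, ⟨a, ha⟩, hxW'⟩ := (TopCat.Presheaf.isLocallySurjective_iff _).1
    (Presheaf.isLocallySurjective_toSheafify' (Opens.grothendieckTopology X) (freePre V)) W s x hxW
  have e : germ (free V) W x hxW s =
      germ (free V) W' x hxW' ((toSheafify (Opens.grothendieckTopology X) (freePre V)).app (op W') a) :=
    ((congrArg _ ha).trans (germ_res _ hle x hxW' s)).symm
  rw [e]
  let T : FreeAbelianGroup (W' ⟶ V) →+ CohTop.stalk (free V) x :=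
    (germ (free V) W' x hxW').comp ((toSheafify (Opens.grothendieckTopology X) (freePre V)).app (op W')).hom
  change (x ∉ V → T a = 0) ∧ ∀ hx : x ∈ V, ∃ k : ℤ, T a = k • germ (free V) V x hx (gen V)
  have hof : ∀ g : W' ⟶ V, T (FreeAbelianGroup.of g) = germ (free V) V x (g.le hxW') (gen V) := by
    intro g
    have hg : FreeAbelianGroup.of g = (freePre V).map g.op (FreeAbelianGroup.of (𝟙 V)) :=
      (congrArg FreeAbelianGroup.of (Category.comp_id g).symm).trans
        (FreeAbelianGroup.map_of_apply _).symm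
    change germ (free V) W' x hxW' ((toSheafify _ (freePre V)).app (op W') (FreeAbelianGroup.of g)) = _
    rw [hg]
    refine (congrArg (germ (free V) W' x hxW') (ConcreteCategory.congr_hom
      ((toSheafify (Opens.grothendieckTopology X) (freePre V)).naturality g.op) _)).trans ?_
    exact germ_res (free V) g.le x hxW' _
  clear e ha
  change FreeAbelianGroup (W' ⟶ V) at a
  induction a using FreeAbelianGroup.induction_on with
  | zero => exact ⟨fun _ => map_zero T, fun hx => ⟨0, by rw [map_zero, zero_smul]⟩⟩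
  | of g =>
    exact ⟨fun hx => absurd (g.le hxW') hx, fun hx => ⟨1, by rw [hof, one_smul]⟩⟩
  | neg g _ =>
    refine ⟨fun hx => absurd (g.le hxW') hx, fun hx => ⟨-1, ?_⟩⟩
    rw [map_neg, hof, neg_smul, one_smul]
  | add a b ha hb =>
    refine ⟨fun hx => ?_, fun hx => ?_⟩
    · rw [map_add, ha.1 hx, hb.1 hx, add_zero]
    · obtain ⟨k, hk⟩ := ha.2 hx
      obtain ⟨l, hl⟩ := hb.2 hx
      exact ⟨k + l, by rw [map_add, hk, hl, add_smul]⟩

theorem eq_zero_of_zsmul_germ_gen (V : Opens X) (x : X) (hx : x ∈ V) (k : ℤ)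
    (h : k • germ (free V) V x hx (gen V) = 0) : k = 0 := by
  let A : X → AddCommGrpCat.{u} := fun _ => AddCommGrpCat.of (ULift.{u} ℤ)
  obtain ⟨φ, hφ⟩ := (secHom_bijective (piSheaf A) V).2 (fun _ => ULift.up 1)
  have h1 : stalkMap φ x (k • germ (free V) V x hx (gen V)) = 0 := by rw [h, map_zero]
  rw [map_zsmul, stalkMap_germ, ← map_zsmul] at h1
  change germ (piSheaf A) V x hx (k • secHom (piSheaf A) V φ) = 0 at h1
  rw [hφ] at h1
  obtain ⟨W, hxW, hle, e⟩ := exists_res_eq_zero hx h1
  have e2 : k • (ULift.up 1 : ULift.{u} ℤ) = 0 := congrFun e ⟨x, hxW⟩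
  have e3 := congrArg ULift.down e2
  simpa using e3

theorem stalkMap_freeMap_gen {U V : Opens X} (h : V ≤ U) (x : X) (hx : x ∈ V) :
    stalkMap (freeMap h) x (germ (free V) V x hx (gen V)) = germ (free U) U x (h hx) (gen U) := by
  rw [stalkMap_germ]
  have e := secHom_freeMap (F := free U) h (𝟙 _)
  rw [Category.comp_id] at e
  exact (congrArg _ e).trans (germ_res (free U) h x hx _)

lemma stalkMap_zsmul {A B : CohTop.Ab X} (n : ℤ) (f : A ⟶ B) (x : X) (t : CohTop.stalk A x) :
    stalkMap (n • f) x t = n • stalkMap f x t :=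
  map_zsmul (AddMonoidHom.mk' (fun f : A ⟶ B => stalkMap f x t) fun f g => stalkMap_add f g x t) n f

section Induction

variable (U : Opens X)

/-- Indices of standard subsheaves of `free U`. -/
abbrev Ix : Type u := {V : Opens X // IsCompact (V : Set X) ∧ V ≤ U} × ℤ

variable {U}

/-- The standard maps. -/
def gmap (a : Ix U) : free a.1.1 ⟶ free U := a.2 • freeMap a.1.2.2

/-- The integers realised by a list at a point. -/
def intSpan (x : X) : List (Ix U) → AddSubgroup ℤ
  | [] => ⊥
  | a :: l => (⨆ (_ : x ∈ a.1.1), AddSubgroup.zmultiples a.2) ⊔ intSpan x l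

/-- The germs realised by a list. -/
def RgList (x : X) : List (Ix U) → AddSubgroup (CohTop.stalk (free U) x)
  | [] => ⊥
  | a :: l => Rg (gmap a) x ⊔ RgList x l

theorem Rg_gmap_bot (a : Ix U) (x : X) (hx : x ∉ a.1.1) : Rg (gmap a) x = ⊥ := by
  refine (AddSubgroup.eq_bot_iff_forall _).2 ?_
  rintro _ ⟨t, rfl⟩
  rw [(germ_free_cases a.1.1 x t).1 hx, map_zero]

theorem Rg_gmap (a : Ix U) (x : X) (hxU : x ∈ U) :
    Rg (gmap a) x = (⨆ (_ : x ∈ a.1.1), AddSubgroup.zmultiples a.2).map
      (zmultiplesHom _ (germ (free U) U x hxU (gen U))) := by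
  by_cases hx : x ∈ a.1.1
  · rw [iSup_pos hx, AddMonoidHom.map_zmultiples, zmultiplesHom_apply]
    refine le_antisymm ?_ ?_
    · rintro _ ⟨t, rfl⟩
      obtain ⟨k, rfl⟩ := (germ_free_cases a.1.1 x t).2 hx
      rw [map_zsmul, gmap, stalkMap_zsmul, stalkMap_freeMap_gen]
      exact AddSubgroup.zsmul_mem _ (AddSubgroup.mem_zmultiples _) k
    · rw [AddSubgroup.zmultiples_le]
      refine ⟨germ (free a.1.1) a.1.1 x hx (gen a.1.1), ?_⟩
      rw [gmap, stalkMap_zsmul, stalkMap_freeMap_gen]
  · rw [iSup_neg hx, AddSubgroup.map_bot, Rg_gmap_bot a x hx]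

theorem RgList_eq (x : X) (hxU : x ∈ U) : ∀ l : List (Ix U),
    RgList x l = (intSpan x l).map (zmultiplesHom _ (germ (free U) U x hxU (gen U)))
  | [] => (AddSubgroup.map_bot _).symm
  | a :: l => by rw [RgList, intSpan, AddSubgroup.map_sup, ← RgList_eq x hxU l, ← Rg_gmap]

theorem RgList_bot (x : X) (hxU : x ∉ U) : ∀ l : List (Ix U), RgList x l = ⊥
  | [] => rfl
  | a :: l => by
    rw [RgList, RgList_bot x hxU l, Rg_gmap_bot a x (fun h => hxU (a.1.2.2 h)), bot_sup_eq]

lemma mem_lcm_sup {a n x : ℤ} (S : AddSubgroup ℤ) (hx : x ∈ AddSubgroup.zmultiples a ⊔ S) (hn : n ∣ x) :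
    x ∈ AddSubgroup.zmultiples (lcm a n) ⊔ (S ⊓ AddSubgroup.zmultiples n) := by
  obtain ⟨c, rfl⟩ := Int.subgroup_cyclic S
  rw [← AddSubgroup.zmultiples_eq_closure] at hx ⊢
  obtain ⟨y, hy, z, hz, rfl⟩ := AddSubgroup.mem_sup.1 hx
  obtain ⟨i, rfl⟩ := Int.mem_zmultiples_iff.1 hy
  obtain ⟨j, rfl⟩ := Int.mem_zmultiples_iff.1 hz
  by_cases hg : (Int.gcd a c : ℤ) = 0
  · obtain ⟨rfl, rfl⟩ := Int.gcd_eq_zero_iff.1 (by exact_mod_cast hg : Int.gcd a c = 0)
    simp
  obtain ⟨a', ha'⟩ := Int.gcd_dvd_left a c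
  obtain ⟨c', hc'⟩ := Int.gcd_dvd_right a c
  have hbez := Int.gcd_eq_gcd_ab a c
  generalize (Int.gcd a c : ℤ) = g at hg ha' hc' hbez
  generalize Int.gcdA a c = p at hbez
  generalize Int.gcdB a c = q at hbez
  subst ha' hc'
  have h1 : a' * p + c' * q = 1 := by
    apply mul_left_cancel₀ hg
    linear_combination -hbez
  refine AddSubgroup.mem_sup.2 ⟨(g * a' * i + g * c' * j) * (a' * p), ?_, (g * a' * i + g * c' * j) * (c' * q), ?_, ?_⟩
  · refine Int.mem_zmultiples_iff.2 (lcm_dvd ?_ (hn.mul_right _))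
    exact ⟨(a' * i + c' * j) * p, by ring⟩
  · refine AddSubgroup.mem_inf.2 ⟨Int.mem_zmultiples_iff.2 ⟨(a' * i + c' * j) * q, by ring⟩,
      Int.mem_zmultiples_iff.2 (hn.mul_right _)⟩
  · linear_combination (g * a' * i + g * c' * j) * h1

variable [QuasiSeparatedSpace X]

/-- Intersection with a standard index. -/
def inter (b : Ix U) (a : Ix U) : Ix U :=
  (⟨a.1.1 ⊓ b.1.1, QuasiSeparatedSpace.inter_isCompact _ _ a.1.1.2 a.1.2.1 b.1.1.2 b.1.2.1,
    inf_le_left.trans a.1.2.2⟩, lcm a.2 b.2)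

theorem intSpan_inter (x : X) (b : Ix U) (hb : x ∈ b.1.1) : ∀ l : List (Ix U),
    intSpan x l ⊓ AddSubgroup.zmultiples b.2 = intSpan x (l.map (inter b))
  | [] => bot_inf_eq _
  | a :: l => by
    rw [List.map_cons, intSpan, intSpan, ← intSpan_inter x b hb l]
    by_cases hx : x ∈ a.1.1
    · rw [iSup_pos hx, iSup_pos (show x ∈ (inter b a).1.1 from ⟨hx, hb⟩)]
      refine le_antisymm ?_ (sup_le (le_inf (le_sup_of_le_left ?_) ?_) (le_inf (inf_le_left.trans le_sup_right) inf_le_right))
      · intro y hy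
        exact mem_lcm_sup _ hy.1 (Int.mem_zmultiples_iff.1 hy.2)
      · rw [AddSubgroup.zmultiples_le, Int.mem_zmultiples_iff]
        exact dvd_lcm_left _ _
      · rw [AddSubgroup.zmultiples_le, Int.mem_zmultiples_iff]
        exact dvd_lcm_right _ _
    · rw [iSup_neg hx, iSup_neg (show x ∉ (inter b a).1.1 from fun h => hx h.1), bot_sup_eq, bot_sup_eq]

theorem RgList_inter (x : X) (b : Ix U) (l : List (Ix U)) :
    RgList x l ⊓ Rg (gmap b) x = RgList x (l.map (inter b)) := by
  by_cases hxU : x ∈ U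
  swap
  · rw [RgList_bot x hxU, RgList_bot x hxU, bot_inf_eq]
  have hinj : Function.Injective (zmultiplesHom _ (germ (free U) U x hxU (gen U))) :=
    (injective_iff_map_eq_zero _).2 fun k hk => eq_zero_of_zsmul_germ_gen U x hxU k hk
  rw [RgList_eq x hxU, RgList_eq x hxU, Rg_gmap b x hxU, ← AddSubgroup.map_inf _ _ _ hinj]
  congr 1
  by_cases hb : x ∈ b.1.1
  · rw [iSup_pos hb, intSpan_inter x b hb]
  · rw [iSup_neg hb, inf_bot_eq]
    induction l with
    | nil => rfl
    | cons a l ih =>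
      rw [List.map_cons, intSpan, iSup_neg (show x ∉ (inter b a).1.1 from fun h => hb h.2), bot_sup_eq, ← ih]

variable [CompactSpace X] [PrespectralSpace X] {d : ℕ}
  (hfree : ∀ V : Opens X, IsCompact (V : Set X) → Van d (free V))

include hfree in
theorem exists_van_list : ∀ (k : ℕ) (l : List (Ix U)), l.length ≤ k →
    ∃ (A : CohTop.Ab X) (m : A ⟶ free U), Mono m ∧ Van d A ∧ ∀ x, Rg m x = RgList x l := by
  intro k
  induction k with
  | zero =>
    intro l hl
    obtain rfl := List.length_eq_zero_iff.1 (Nat.le_zero.1 hl)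
    refine ⟨kernel (𝟙 (free U)), kernel.ι _, inferInstance, van_of_isZero (isZero_kernel_of_mono _), fun x => ?_⟩
    exact (AddSubgroup.eq_bot_iff_forall _).2 (by
      rintro _ ⟨t, rfl⟩
      rw [show kernel.ι (𝟙 (free U)) = 0 from (Category.comp_id _).symm.trans (kernel.condition _), stalkMap_zero])
  | succ k ih =>
    intro l hl
    match l with
    | [] => exact ih [] (Nat.zero_le _)
    | b :: l =>
      obtain ⟨A, m, hm, hA, hRg⟩ := ih l (by simpa using hl)
      by_cases hb : b.2 = 0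
      · refine ⟨A, m, hm, hA, fun x => ?_⟩
        have h0 : Rg (gmap b) x = ⊥ := (AddSubgroup.eq_bot_iff_forall _).2 (by
          rintro _ ⟨t, rfl⟩
          rw [gmap, hb, zero_smul, stalkMap_zero])
        rw [RgList, h0, bot_sup_eq, hRg]
      haveI : Mono (gmap b) := by
        refine Preadditive.mono_of_cancel_zero _ fun {Z} q hq => hom_eq_zero q fun x t => ?_
        have h1 : stalkMap (gmap b) x (stalkMap q x t) = 0 := by rw [← stalkMap_comp, hq, stalkMap_zero]
        by_cases hx : x ∈ b.1.1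
        · obtain ⟨j, hj⟩ := (germ_free_cases b.1.1 x (stalkMap q x t)).2 hx
          rw [hj, map_zsmul, gmap, stalkMap_zsmul, stalkMap_freeMap_gen, smul_smul] at h1
          rw [hj, (mul_eq_zero.1 (eq_zero_of_zsmul_germ_gen U x _ _ h1)).resolve_right hb, zero_smul]
        · exact (germ_free_cases b.1.1 x _).1 hx
      obtain ⟨A', m', hm', hA', hRg'⟩ := ih (l.map (inter b)) (by simpa using hl)
      obtain ⟨S, π, mS, hπ, hmS, hfac, hS⟩ := exists_image m (gmap b)
      let P := pullback.fst m (gmap b) ≫ m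
      have hP : ∀ x, Rg P x = Rg m' x := fun x => by
        rw [Rg_pullback, hRg', hRg, RgList_inter]
      obtain ⟨g₁, hg₁⟩ := exists_lift P m' (fun x => (hP x).le)
      obtain ⟨g₂, hg₂⟩ := exists_lift m' P (fun x => (hP x).ge)
      have e : A' ≅ pullback m (gmap b) :=
        { hom := g₂
          inv := g₁
          hom_inv_id := (cancel_mono m').1 (by rw [Category.assoc, hg₁, hg₂, Category.id_comp])
          inv_hom_id := (cancel_mono P).1 (by rw [Category.assoc, hg₂, hg₁, Category.id_comp]) }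
      refine ⟨S, mS, hmS, van_image m (gmap b) π mS hfac hA (hfree _ b.1.2.1) (van_of_iso e hA'), fun x => ?_⟩
      rw [hS, hRg, RgList, sup_comm]

lemma RgList_toList [DecidableEq (Ix U)] (x : X) (s : List (Ix U)) :
    RgList x s = ⨆ a ∈ s, Rg (gmap a) x := by
  induction s with
  | nil => simp [RgList]
  | cons a l ih => simp [RgList, ih, iSup_or, iSup_sup_eq]

include hfree in
theorem van_sub {K : CohTop.Ab X} (m : K ⟶ free U) [Mono m] : Van d K := by
  classical
  let Γ := {a : Ix U // ∀ x, Rg (gmap a) x ≤ Rg m x}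
  have hl : ∀ a : Γ, ∃ g, g ≫ m = gmap a.1 := fun a => exists_lift _ m a.2
  choose g hg using hl
  have hinj : ∀ x, Function.Injective (stalkMap m x) := fun x => by
    refine TopCat.Presheaf.stalkFunctor_map_injective_of_app_injective (fun W => ?_) x
    refine (injective_iff_map_eq_zero _).2 fun s hs => ?_
    obtain ⟨φ, rfl⟩ := (secHom_bijective K W).2 s
    have : φ ≫ m = 0 := (secHom_bijective (free U) W).1 (hs.trans (map_zero _).symm)
    rw [(cancel_mono m).1 (this.trans zero_comp.symm), map_zero]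
  have hmap : ∀ a x, (Rg (g a) x).map (stalkMap m x) = Rg (gmap a.1) x := fun a x => by
    ext t
    rw [← hg a]
    constructor
    · rintro ⟨_, ⟨r, rfl⟩, rfl⟩
      exact ⟨r, stalkMap_comp _ _ x r⟩
    · rintro ⟨r, rfl⟩
      exact ⟨_, ⟨r, rfl⟩, (stalkMap_comp _ _ x r).symm⟩
  refine van_of_generated (Γ := Γ) (fun a x => Rg (g a) x) (fun x t => ?_) (fun s => ?_)
  · by_cases hxU : x ∈ U
    · obtain ⟨k, hk⟩ := (germ_free_cases U x (stalkMap m x t)).2 hxU
      obtain ⟨W₀, hxW₀, r, rfl⟩ := exists_germ_eq K t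
      rw [stalkMap_germ, ← map_zsmul] at hk
      obtain ⟨W₁, hxW₁, h₁, h₂, e⟩ := exists_res_eq hxW₀ hxU hk
      obtain ⟨W, ⟨hWo, hWc⟩, hxW, hWW⟩ :=
        (PrespectralSpace.isTopologicalBasis (X := X)).exists_subset_of_mem_open hxW₁ W₁.2
      let W' : Opens X := ⟨W, hWo⟩
      have hW₀ : W' ≤ W₀ := fun y hy => h₁ (hWW hy)
      have hWU : W' ≤ U := fun y hy => h₂ (hWW hy)
      let a : Ix U := (⟨W', hWc, hWU⟩, k)
      obtain ⟨φ, hφ⟩ := (secHom_bijective K W').2 (K.obj.map (homOfLE hW₀).op r)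
      have hφm : φ ≫ m = gmap a := by
        refine (secHom_bijective (free U) W').1 ?_
        change m.hom.app (op W') (secHom K W' φ) = _
        rw [hφ, app_res, gmap, map_zsmul]
        have e' := congrArg (QCohBase.res (free U).obj (show W' ≤ W₁ from hWW)) e
        refine ((QCohBase.res_res (free U).obj h₁ _ _).symm.trans (e'.trans (QCohBase.res_res (free U).obj h₂ _ _))).trans ?_
        rw [map_zsmul]
        congr 1
        have ee := secHom_freeMap (F := free U) hWU (𝟙 _)
        rw [Category.comp_id] at ee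
        exact ee.symm
      let a' : Γ := ⟨a, fun y => hφm ▸ Rg_comp_le φ m y⟩
      refine ⟨a', ?_⟩
      have hga : g a' = φ := (cancel_mono m).1 ((hg a').trans hφm.symm)
      rw [hga]
      refine ⟨germ (free W') W' x hxW (gen W'), (stalkMap_germ φ W' x hxW _).trans ?_⟩
      exact (congrArg _ hφ).trans (germ_res K hW₀ x hxW r)
    · refine ⟨⟨(⟨⊥, isCompact_empty, bot_le⟩, 0), fun y => ?_⟩, ?_⟩
      · rw [Rg_gmap_bot _ y (fun h => (Set.notMem_empty y) h)]
        exact bot_le
      · have h0 : t = 0 := hinj x (((germ_free_cases U x _).1 hxU).trans (map_zero _).symm)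
        rw [h0]
        exact zero_mem _
  · obtain ⟨A, mA, hmA, hA, hRg⟩ := exists_van_list hfree _ (s.toList.map Subtype.val) le_rfl
    have hle : ∀ x, Rg mA x ≤ Rg m x := fun x => by
      rw [hRg, RgList_toList]
      refine iSup₂_le fun a ha => ?_
      obtain ⟨b, -, rfl⟩ := List.mem_map.1 ha
      exact b.2 x
    obtain ⟨q, hq⟩ := exists_lift mA m hle
    haveI : Mono q := @mono_of_mono_fac _ _ _ _ _ _ _ _ hmA hq
    refine ⟨A, q, inferInstance, hA, fun x => AddSubgroup.map_injective (hinj x) ?_⟩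
    have e1 : (Rg q x).map (stalkMap m x) = Rg mA x := by
      ext t
      rw [← hq]
      constructor
      · rintro ⟨_, ⟨r, rfl⟩, rfl⟩
        exact ⟨r, stalkMap_comp _ _ x r⟩
      · rintro ⟨r, rfl⟩
        exact ⟨_, ⟨r, rfl⟩, (stalkMap_comp _ _ x r).symm⟩
    rw [e1, hRg, RgList_toList]
    simp only [AddSubgroup.map_iSup, hmap]
    refine le_antisymm (iSup₂_le fun a ha => ?_) (iSup₂_le fun b hb => ?_)
    · obtain ⟨b, hb, rfl⟩ := List.mem_map.1 ha
      exact le_iSup₂_of_le b (Finset.mem_toList.1 hb) le_rfl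
    · exact le_iSup₂_of_le b.1 (List.mem_map.2 ⟨b, Finset.mem_toList.2 hb, rfl⟩) le_rfl

end Induction

variable [CompactSpace X] [PrespectralSpace X] [QuasiSeparatedSpace X] {d : ℕ}
  (hfree : ∀ V : Opens X, IsCompact (V : Set X) → Van d (free V))

include hfree in
theorem van_of_epi_free {U : Opens X} (hU : IsCompact (U : Set X)) {Q : CohTop.Ab X} (π : free U ⟶ Q) [Epi π] :
    Van d Q := by
  have hT : (ShortComplex.mk (kernel.ι π) π (kernel.condition π)).ShortExact :=
    { exact := ShortComplex.exact_of_f_is_kernel _ (kernelIsKernel π) }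
  exact van_right hT (van_sub hfree (kernel.ι π)) (hfree U hU)

include hfree in
theorem van_all (F : CohTop.Ab X) : Van d F := by
  classical
  let Γ := Σ U : {U : Opens X // IsCompact (U : Set X)}, (free U.1 ⟶ F)
  refine van_of_generated (Γ := Γ) (fun a x => Rg a.2 x) (fun x t => ?_) (fun s => ?_)
  · obtain ⟨W₀, hxW₀, r, rfl⟩ := exists_germ_eq F t
    obtain ⟨W, ⟨hWo, hWc⟩, hxW, hWW⟩ :=
      (PrespectralSpace.isTopologicalBasis (X := X)).exists_subset_of_mem_open hxW₀ W₀.2
    obtain ⟨φ, hφ⟩ := (secHom_bijective F ⟨W, hWo⟩).2 (F.obj.map (homOfLE (show (⟨W, hWo⟩ : Opens X) ≤ W₀ from hWW)).op r)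
    refine ⟨⟨⟨⟨W, hWo⟩, hWc⟩, φ⟩, germ _ ⟨W, hWo⟩ x hxW (gen _), (stalkMap_germ φ _ x hxW _).trans ?_⟩
    exact (congrArg _ hφ).trans (germ_res F (show (⟨W, hWo⟩ : Opens X) ≤ W₀ from hWW) x hxW r)
  · induction s using Finset.induction_on with
    | empty =>
      refine ⟨kernel (𝟙 F), kernel.ι _, inferInstance, van_of_isZero (isZero_kernel_of_mono _), fun x => ?_⟩
      simp only [Finset.notMem_empty, iSup_false, iSup_bot]
      exact (AddSubgroup.eq_bot_iff_forall _).2 (by
        rintro _ ⟨t, rfl⟩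
        rw [show kernel.ι (𝟙 F) = 0 from (Category.comp_id _).symm.trans (kernel.condition _), stalkMap_zero])
    | insert a s ha ih =>
      obtain ⟨A, m, hm, hA, hRg⟩ := ih
      obtain ⟨S, π, mS, hπ, hmS, hfac, hS⟩ := exists_image m a.2
      let i : A ⟶ S := biprod.inl ≫ π
      let j : free a.1.1 ⟶ S := biprod.inr ≫ π
      haveI : Mono i := by
        haveI : Mono (i ≫ mS) := by
          rw [show i ≫ mS = m by rw [Category.assoc, hfac, biprod.inl_desc]]
          exact hm
        exact mono_of_mono i mS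
      haveI : Epi (j ≫ cokernel.π i) := by
        refine Preadditive.epi_of_cancel_zero _ fun {Z} q hq => ?_
        refine (cancel_epi (π ≫ cokernel.π i)).1 ?_
        rw [comp_zero]
        apply biprod.hom_ext'
        · rw [comp_zero, Category.assoc, ← Category.assoc biprod.inl, ← Category.assoc,
            cokernel.condition i, zero_comp]
        · rw [comp_zero]
          simpa [j, Category.assoc] using hq
      have hT : (ShortComplex.mk i (cokernel.π i) (cokernel.condition i)).ShortExact :=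
        { exact := ShortComplex.exact_of_g_is_cokernel _ (cokernelIsCokernel i) }
      refine ⟨S, mS, hmS, van_mid hT hA (van_of_epi_free hfree a.1.2 (j ≫ cokernel.π i)), fun x => ?_⟩
      rw [hS, hRg, Finset.iSup_insert, sup_comm]

end Groth.Agent.SpecVanish
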