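import Groth.Agent.SpecCohLib.Colim
import Groth.Agent.CohTopLib.Functors
import Groth.Agent.CohTopLib.Closed
import Groth.Agent.Godement.Germs
import Groth.Agent.Godement.Stalk
import Mathlib.CategoryTheory.Abelian.GrothendieckAxioms.Colim
import Mathlib.CategoryTheory.Sites.Abelian
import Mathlib.CategoryTheory.Filtered.Connected
import Mathlib.Algebra.GCDMonoid.Nat
import Mathlib.RingTheory.Int.Basic

/-! # Vanishing for all sheaves from vanishing for free sheaves on compact opens -/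

set_option autoImplicit false
set_option linter.style.haveILetI false

noncomputable section

universe u

open CategoryTheory CategoryTheory.Limits TopologicalSpace Opposite

namespace Groth.Agent.SpecVanish

open QCohBase CohTopLib Godement

variable {X : TopCat.{u}}

/-- The germs in the image of a morphism. -/
abbrev Rg {A F : CohTop.Ab X} (m : A ⟶ F) (x : X) : AddSubgroup (CohTop.stalk F x) :=
  (stalkMap m x).range

lemma stalkMap_comp {A B C : CohTop.Ab X} (f : A ⟶ B) (g : B ⟶ C) (x : X) (t : CohTop.stalk A x) :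
    stalkMap (f ≫ g) x t = stalkMap g x (stalkMap f x t) := by
  obtain ⟨W, hW, s, rfl⟩ := exists_germ_eq A t
  rw [stalkMap_germ, stalkMap_germ, stalkMap_germ]
  rfl

lemma stalkMap_add {A B : CohTop.Ab X} (f g : A ⟶ B) (x : X) (t : CohTop.stalk A x) :
    stalkMap (f + g) x t = stalkMap f x t + stalkMap g x t := by
  obtain ⟨W, hW, s, rfl⟩ := exists_germ_eq A t
  rw [stalkMap_germ, stalkMap_germ, stalkMap_germ, ← map_add]
  rfl

lemma stalkMap_zero {A B : CohTop.Ab X} (x : X) (t : CohTop.stalk A x) :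
    stalkMap (0 : A ⟶ B) x t = 0 := by
  obtain ⟨W, hW, s, rfl⟩ := exists_germ_eq A t
  rw [stalkMap_germ]
  exact map_zero _

lemma hom_eq_zero {A B : CohTop.Ab X} (f : A ⟶ B) (h : ∀ x t, stalkMap f x t = 0) : f = 0 := by
  refine CategoryTheory.Sheaf.hom_ext (NatTrans.ext (funext fun W => AddCommGrpCat.ext fun s => ?_))
  refine TopCat.Presheaf.section_ext B W.unop _ _ fun x hx => ?_
  exact ((stalkMap_germ f W.unop x hx s).symm.trans (h x _)).trans (map_zero _).symm

lemma stalkMap_surjective {A B : CohTop.Ab X} (f : A ⟶ B) [Epi f] (x : X) :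
    Function.Surjective (stalkMap f x) := fun t => by
  obtain ⟨W, hxW, s, rfl⟩ := exists_germ_eq _ t
  obtain ⟨W', hle, ⟨r, hr⟩, hxW'⟩ := (TopCat.Presheaf.isLocallySurjective_iff f.hom).mp
    ((CategoryTheory.Sheaf.isLocallySurjective_iff_epi' (φ := f)).mpr inferInstance) W s x hxW
  refine ⟨germ _ W' x hxW' r, (stalkMap_germ _ W' x hxW' r).trans ?_⟩
  exact (congrArg _ hr).trans (germ_res _ hle x hxW' s)

lemma Rg_epi_comp {A B F : CohTop.Ab X} (e : A ⟶ B) [Epi e] (m : B ⟶ F) (x : X) :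
    Rg (e ≫ m) x = Rg m x := by
  ext t
  constructor
  · rintro ⟨a, rfl⟩
    exact ⟨stalkMap e x a, (stalkMap_comp e m x a).symm⟩
  · rintro ⟨b, rfl⟩
    obtain ⟨a, rfl⟩ := stalkMap_surjective e x b
    exact ⟨a, stalkMap_comp e m x a⟩

lemma Rg_comp_le {A B F : CohTop.Ab X} (e : A ⟶ B) (m : B ⟶ F) (x : X) : Rg (e ≫ m) x ≤ Rg m x := by
  rintro _ ⟨a, rfl⟩
  exact ⟨stalkMap e x a, (stalkMap_comp e m x a).symm⟩

lemma Rg_desc {A B F : CohTop.Ab X} (f : A ⟶ F) (g : B ⟶ F) (x : X) :
    Rg (biprod.desc f g) x = Rg f x ⊔ Rg g x := by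
  refine le_antisymm ?_ (sup_le ?_ ?_)
  · rintro _ ⟨t, rfl⟩
    have e : biprod.desc f g = biprod.fst ≫ f + biprod.snd ≫ g := by
      apply biprod.hom_ext' <;> simp
    rw [e, stalkMap_add, stalkMap_comp, stalkMap_comp]
    exact AddSubgroup.add_mem_sup ⟨_, rfl⟩ ⟨_, rfl⟩
  · conv_lhs => rw [← biprod.inl_desc f g]
    exact Rg_comp_le _ _ x
  · conv_lhs => rw [← biprod.inr_desc f g]
    exact Rg_comp_le _ _ x

/-- Factorisation through a monomorphism with larger image. -/
lemma exists_lift {A B F : CohTop.Ab X} (f : A ⟶ F) (m : B ⟶ F) [Mono m]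
    (h : ∀ x, Rg f x ≤ Rg m x) : ∃ g : A ⟶ B, g ≫ m = f := by
  have h0 : f ≫ cokernel.π m = 0 := by
    refine hom_eq_zero _ fun x t => ?_
    obtain ⟨b, hb⟩ := h x ⟨t, rfl⟩
    rw [stalkMap_comp, ← hb, ← stalkMap_comp, cokernel.condition, stalkMap_zero]
  exact ⟨Abelian.monoLift m f h0, Abelian.monoLift_comp m f h0⟩

lemma Rg_pullback {A B F : CohTop.Ab X} (f : A ⟶ F) (g : B ⟶ F) (x : X) :
    Rg (pullback.fst f g ≫ f) x = Rg f x ⊓ Rg g x := by
  refine le_antisymm (le_inf (Rg_comp_le _ _ x) ?_) ?_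
  · rw [pullback.condition]
    exact Rg_comp_le _ _ x
  · rintro t ⟨⟨a, ha⟩, ⟨b, hb⟩⟩
    obtain ⟨U, hxU, s, rfl⟩ := exists_germ_eq A a
    obtain ⟨V, hxV, r, rfl⟩ := exists_germ_eq B b
    rw [stalkMap_germ] at ha hb
    obtain ⟨W, hxW, h₁, h₂, e⟩ := exists_res_eq hxU hxV (ha.trans hb.symm)
    obtain ⟨φ, hφ⟩ := (secHom_bijective A W).2 (A.obj.map (homOfLE h₁).op s)
    obtain ⟨ψ, hψ⟩ := (secHom_bijective B W).2 (B.obj.map (homOfLE h₂).op r)
    have hc : φ ≫ f = ψ ≫ g := by
      refine (secHom_bijective F W).1 ?_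
      change f.hom.app (op W) (secHom A W φ) = g.hom.app (op W) (secHom B W ψ)
      rw [hφ, hψ, app_res, app_res]
      exact e
    let w := secHom (pullback f g) W (pullback.lift φ ψ hc)
    refine ⟨germ _ W x hxW w, (stalkMap_germ _ W x hxW w).trans ?_⟩
    refine Eq.trans ?_ ha
    have hw : (pullback.fst f g ≫ f).hom.app (op W) w = f.hom.app (op W) (secHom A W φ) := by
      change secHom F W (pullback.lift φ ψ hc ≫ pullback.fst f g ≫ f) = secHom F W (φ ≫ f)
      rw [pullback.lift_fst_assoc]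
    rw [hw, hφ, app_res, germ_res]

/-- Vanishing of cohomology above degree `d`. -/
def Van (d : ℕ) (F : CohTop.Ab X) : Prop := ∀ p, d < p → Subsingleton (CohTop.HU F p ⊤)

variable {d : ℕ}

lemma HUmap_eq' {F F' : CohTop.Ab X} (f : F ⟶ F') (n : ℕ) (x : CohTop.HU F n ⊤) :
    CohTop.HUmap f n ⊤ x = Abelian.Ext.comp x (Abelian.Ext.mk₀ f) (add_zero n) := rfl

lemma van_of_iso {F F' : CohTop.Ab X} (e : F ≅ F') (h : Van d F) : Van d F' := fun p hp =>
  haveI := h p hp
  (ConcreteCategory.bijective_of_isIso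
    (((Sheaf.cohomologyPresheafFunctor (Opens.grothendieckTopology X) p).map e.hom).app (op ⊤))).2.subsingleton

lemma van_of_isZero {F : CohTop.Ab X} (h : IsZero F) : Van d F := fun p _ =>
  subsingleton_of_forall_eq 0 fun x => by
    refine (Abelian.Ext.comp_mk₀_id x).symm.trans ?_
    rw [h.eq_of_src (𝟙 F) 0, Abelian.Ext.mk₀_zero]
    exact Abelian.Ext.comp_zero _ _ _ _ _

variable {T : ShortComplex (CohTop.Ab X)}

lemma van_mid (hT : T.ShortExact) (h₁ : Van d T.X₁) (h₃ : Van d T.X₃) : Van d T.X₂ := fun p hp =>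
  subsingleton_of_forall_eq 0 fun x => by
    obtain ⟨y, hy⟩ := Abelian.Ext.covariant_sequence_exact₂ (free (⊤ : Opens X)) hT x ((h₃ p hp).elim _ _)
    obtain rfl : y = 0 := (h₁ p hp).elim y 0
    exact hy.symm.trans (Abelian.Ext.zero_comp _ _ _ _ _)

lemma van_right (hT : T.ShortExact) (h₁ : Van d T.X₁) (h₂ : Van d T.X₂) : Van d T.X₃ := fun p hp =>
  haveI := h₁ (p + 1) (by omega)
  (huDelta_injective hT p ⊤ (h₂ p hp)).subsingleton

lemma van_biprod {A B : CohTop.Ab X} (hA : Van d A) (hB : Van d B) : Van d (A ⊞ B) :=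
  van_mid (ShortComplex.Splitting.ofHasBinaryBiproduct A B).shortExact hA hB

/-- The image of `A ⊞ B → F` when the intersection is good. -/
lemma van_image {A B F S : CohTop.Ab X} (f : A ⟶ F) (g : B ⟶ F) (π : A ⊞ B ⟶ S) (m : S ⟶ F)
    [Epi π] [Mono m] (hfac : π ≫ m = biprod.desc f g) (hA : Van d A) (hB : Van d B)
    (hP : Van d (pullback f g)) : Van d S := by
  let ι : pullback f g ⟶ A ⊞ B := biprod.lift (pullback.fst f g) (-pullback.snd f g)
  have hι : ι ≫ π = 0 := by
    rw [← cancel_mono m, Category.assoc, hfac, biprod.lift_desc, Preadditive.neg_comp, pullback.condition,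
      add_neg_cancel, zero_comp]
  haveI : Mono ι := ⟨fun a b h => by
    apply pullback.hom_ext
    · simpa [ι] using congrArg (· ≫ biprod.fst) h
    · simpa [ι] using congrArg (· ≫ biprod.snd) h⟩
  refine van_right (T := ShortComplex.mk ι π hι) ?_ hP (van_biprod hA hB)
  refine { exact := ShortComplex.exact_of_f_is_kernel _ (KernelFork.IsLimit.ofι' _ _ fun {W} k hk => ?_) }
  have hk' : (k ≫ biprod.fst) ≫ f = (-(k ≫ biprod.snd)) ≫ g := by
    have e : k ≫ biprod.desc f g = 0 := by rw [← hfac, ← Category.assoc, hk, zero_comp]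
    have e2 : biprod.desc f g = biprod.fst ≫ f + biprod.snd ≫ g := by apply biprod.hom_ext' <;> simp
    rw [e2, Preadditive.comp_add, ← Category.assoc, ← Category.assoc] at e
    rw [Preadditive.neg_comp]
    exact eq_neg_of_add_eq_zero_left e
  refine ⟨pullback.lift (k ≫ biprod.fst) (-(k ≫ biprod.snd)) hk', ?_⟩
  apply biprod.hom_ext
  · change (_ ≫ biprod.lift _ _) ≫ biprod.fst = _
    rw [Category.assoc, biprod.lift_fst]
    exact pullback.lift_fst _ _ _
  · change (_ ≫ biprod.lift _ _) ≫ biprod.snd = _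
    rw [Category.assoc, biprod.lift_snd, Preadditive.comp_neg]
    exact (congrArg Neg.neg (pullback.lift_snd _ _ _)).trans (neg_neg _)

section Colim

variable [CompactSpace X] [PrespectralSpace X] [QuasiSeparatedSpace X]

/-- A sheaf generated by a family, all of whose finite subfamilies generate good subsheaves, is good. -/
theorem van_of_generated {F : CohTop.Ab X} {Γ : Type u} (gens : Γ → ∀ x : X, AddSubgroup (CohTop.stalk F x))
    (htop : ∀ x (t : CohTop.stalk F x), ∃ a, t ∈ gens a x)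
    (h : ∀ s : Finset Γ, ∃ (A : CohTop.Ab X) (m : A ⟶ F), Mono m ∧ Van d A ∧
      ∀ x, Rg m x = ⨆ a ∈ s, gens a x) : Van d F := by
  classical
  choose A m hm hvan hRg using h
  have hle : ∀ {s s' : Finset Γ}, s ≤ s' → ∀ x, Rg (m s) x ≤ Rg (m s') x := fun {s s'} hss x => by
    rw [hRg, hRg]
    exact biSup_mono fun a ha => hss ha
  have hl : ∀ {s s' : Finset Γ}, s ≤ s' → ∃ g : A s ⟶ A s', g ≫ m s' = m s := fun {s s'} hss =>
    haveI := hm s'
    exists_lift (m s) (m s') (hle hss)
  choose tr htr using @hl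
  let D : Finset Γ ⥤ CohTop.Ab X :=
    { obj := A
      map := fun f => tr (leOfHom f)
      map_id := fun s => (haveI := hm s; (cancel_mono (m s)).1 ((htr _).trans (Category.id_comp _).symm))
      map_comp := fun {a b c} f g => (haveI := hm c; (cancel_mono (m c)).1 (by
        rw [htr, Category.assoc, htr, htr])) }
  let co : Cocone D :=
    { pt := F
      ι :=
        { app := m
          naturality := fun a b f => (htr (leOfHom f)).trans (Category.comp_id _).symm } }
  let f : colimit D ⟶ F := colimit.desc D co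
  haveI : IsConnected (Finset Γ) := IsFiltered.isConnected _
  haveI hmono : Mono f := by
    haveI : ∀ a, Mono (co.ι.app a) := hm
    haveI := NatTrans.mono_of_mono_app co.ι
    exact colim.map_mono' co.ι (colimit.isColimit _) (isColimitConstCocone _ F) f
      (fun a => (colimit.ι_desc co a).trans (Category.comp_id _).symm)
  haveI hepi : Epi f := by
    refine (CategoryTheory.Sheaf.isLocallySurjective_iff_epi' (φ := f)).1 ?_
    refine (TopCat.Presheaf.isLocallySurjective_iff f.hom).2 fun W s x hxW => ?_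
    obtain ⟨a, ha⟩ := htop x (germ F W x hxW s)
    have hmem : germ F W x hxW s ∈ Rg (m {a}) x := by
      rw [hRg]
      exact le_biSup (fun a => gens a x) (Finset.mem_singleton_self a) ha
    obtain ⟨t, ht⟩ := hmem
    obtain ⟨V, hxV, t, rfl⟩ := exists_germ_eq _ t
    rw [stalkMap_germ] at ht
    obtain ⟨W', hxW', h₁, h₂, e⟩ := exists_res_eq hxV hxW ht
    refine ⟨W', h₂, ⟨(colimit.ι D {a}).hom.app (op W') ((A {a}).obj.map (homOfLE h₁).op t), ?_⟩, hxW'⟩
    refine Eq.trans ?_ e
    refine Eq.trans ?_ (app_res (m {a}) h₁ t)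
    exact ConcreteCategory.congr_hom
      (congrArg (fun g : A {a} ⟶ F => g.hom.app (op W')) (colimit.ι_desc co {a})) _
  haveI : IsIso f := isIso_of_mono_of_epi f
  refine van_of_iso (asIso f) fun p hp => subsingleton_of_forall_eq 0 fun z => ?_
  haveI := SpecCohLib.preservesColimits_HU (⊤ : Opens X) isCompact_univ (Finset Γ) p
  let K := (Sheaf.cohomologyPresheafFunctor.{u} (Opens.grothendieckTopology X) p).flip.obj (op (⊤ : Opens X))
  obtain ⟨a, y, hy⟩ := Concrete.isColimit_exists_rep _ (isColimitOfPreserves K (colimit.isColimit D)) z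
  rw [← hy]
  have hy0 : y = (0 : CohTop.HU (A a) p ⊤) := (hvan a p hp).elim _ _
  exact (congrArg _ hy0).trans (map_zero (CohTop.HUmap (colimit.ι D a) p ⊤))

end Colim

lemma exists_image {A B F : CohTop.Ab X} (f : A ⟶ F) (g : B ⟶ F) :
    ∃ (S : CohTop.Ab X) (π : A ⊞ B ⟶ S) (m : S ⟶ F), Epi π ∧ Mono m ∧ π ≫ m = biprod.desc f g ∧
      ∀ x, Rg m x = Rg f x ⊔ Rg g x := by
  refine ⟨Abelian.image (biprod.desc f g), Abelian.factorThruImage _, Abelian.image.ι _, inferInstance,
    inferInstance, Abelian.image.fac _, fun x => ?_⟩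
  rw [← Rg_desc, ← Rg_epi_comp (Abelian.factorThruImage (biprod.desc f g)) (Abelian.image.ι _),
    Abelian.image.fac]

lemma isZero_of_Rg_eq_bot {A F : CohTop.Ab X} (m : A ⟶ F) [Mono m] (h : ∀ x, Rg m x = ⊥) :
    IsZero A := by
  refine (IsZero.iff_id_eq_zero A).2 ((cancel_mono m).1 ?_)
  rw [Category.id_comp, zero_comp]
  exact hom_eq_zero m fun x t => (AddSubgroup.mem_bot).1 (h x ▸ ⟨t, rfl⟩)

end Groth.Agent.SpecVanish
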