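import Groth.Agent.CohTopLib.Functors
import Groth.Agent.CohTopLib.Closed
import Groth.Agent.Godement.Stalk
import Groth.Agent.Godement.Germs
import Groth.Agent.Spectral.Basic
import Groth.Agent.S0471
import Mathlib.Topology.Spectral.Basic

/-! # The sheaf `c_* c^* F` for the constructible topology `c : X^cons → X` of a spectral space -/

set_option autoImplicit false
set_option linter.style.haveILetI false

noncomputable section

universe u

open CategoryTheory CategoryTheory.Limits TopologicalSpace Opposite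

namespace Groth.Agent.SpecVanish

open QCohBase CohTopLib Godement

variable {X : TopCat.{u}}

/-- All germs outside `Z` vanish. -/
def SuppIn (Z : Set X) (F : CohTop.Ab X) : Prop :=
  ∀ x : X, x ∉ Z → ∀ t : CohTop.stalk F x, t = 0

/-- A point of `Z` without proper generalization inside `Z`. -/
def IsMax (Z : Set X) (η : X) : Prop := η ∈ Z ∧ ∀ y ∈ Z, y ⤳ η → y = η

theorem pushZero {X Y : TopCat.{u}} (f : X ⟶ Y) : (CohTop.push f).PreservesZeroMorphisms :=
  inferInstance

section Prespectral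

variable [PrespectralSpace X]

/-- `X` with the constructible topology. -/
abbrev Xc (X : TopCat.{u}) : TopCat.{u} := TopCat.of (WithConstructibleTopology X)

/-- The map `X^cons → X`. -/
def c (X : TopCat.{u}) [PrespectralSpace X] : Xc X ⟶ X :=
  TopCat.ofHom ⟨Spectral.ofCon, Spectral.continuous_ofCon⟩

lemma c_surjective : Function.Surjective (c X) := Spectral.ofCon_surjective

/-- The functor `c_* c^*`. -/
abbrev G (F : CohTop.Ab X) : CohTop.Ab X := (CohTop.push (c X)).obj ((CohTop.pull (c X)).obj F)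

/-- The unit. -/
def u (F : CohTop.Ab X) : F ⟶ G F := unitCoh (c X) F

instance mono_u (F : CohTop.Ab X) : Mono (u F) := by
  let φ : Coh (c X) F ((CohTop.pull (c X)).obj F) := u F
  have hinj : ∀ U : Opens X, Function.Injective (φ.app U) := fun U => by
    refine (injective_iff_map_eq_zero _).2 fun s hs => ?_
    refine TopCat.Presheaf.section_ext F U _ _ fun x hx => ?_
    refine Eq.trans ?_ (map_zero _).symm
    obtain ⟨y, rfl⟩ := c_surjective x
    refine (bijective_stalk_unit (c X) F y).1 ?_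
    refine (φ.stalk_germ U y hx s).trans ?_
    rw [hs, map_zero, map_zero]
  refine ⟨fun {A} g h e => CategoryTheory.Sheaf.hom_ext (NatTrans.ext (funext fun U => ?_))⟩
  exact AddCommGrpCat.ext fun a => hinj U.unop (ConcreteCategory.congr_hom
    (congrArg (fun m : A ⟶ G F => m.hom.app U) e) a)

theorem suppIn_G {Z : Set X} (hZ : IsClosed Z) {F : CohTop.Ab X} (hF : SuppIn Z F) :
    SuppIn Z (G F) := by
  intro x hx t
  obtain ⟨V, hxV, s, rfl⟩ := exists_germ_eq (G F) t
  let V' : Opens X := V ⊓ ⟨Zᶜ, hZ.isOpen_compl⟩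
  have hle : V' ≤ V := inf_le_left
  have h0 : QCohBase.res (G F).obj hle s = 0 := by
    refine TopCat.Presheaf.section_ext ((CohTop.pull (c X)).obj F) _ _ _ fun y hy => ?_
    refine Eq.trans ?_ (map_zero _).symm
    obtain ⟨t', ht'⟩ := (bijective_stalk_unit (c X) F y).2
      (germ ((CohTop.pull (c X)).obj F) ((Opens.map (c X)).obj V') y hy
        (QCohBase.res (G F).obj hle s))
    refine ht'.symm.trans ?_
    rw [hF (c X y) hy.2 t', map_zero]
  refine (germ_res (G F) hle x ⟨hxV, hx⟩ s).symm.trans ?_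
  exact (congrArg _ h0).trans (map_zero _)

end Prespectral

section Spectral

variable [SpectralSpace X]

lemma isClopen_preimage {V : Opens X} (hV : IsCompact (V : Set X)) :
    IsClopen ((Opens.map (c X)).obj V : Set (Xc X)) :=
  Spectral.isClopen_preimage_ofCon V.2 hV

instance t2_Xc : T2Space (Xc X) := by
  refine ⟨fun x y hxy => ?_⟩
  have hxy' : c X x ≠ c X y := fun h => hxy (WithTopology.ofTopology_injective _ h)
  obtain ⟨A, B, hA, hB, hx, hy, hd⟩ := @t2_separation X (constructibleTopology X) Spectral.t2_con _ _ hxy'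
  exact ⟨_, _, Spectral.isOpen_preimage_ofCon.2 hA, Spectral.isOpen_preimage_ofCon.2 hB, hx, hy,
    hd.preimage _⟩

instance td_Xc : TotallyDisconnectedSpace (Xc X) := by
  haveI : TotallySeparatedSpace (Xc X) := by
    refine totallySeparatedSpace_iff_exists_isClopen.2 fun x y hxy => ?_
    have hxy' : c X x ≠ c X y := fun h => hxy (WithTopology.ofTopology_injective _ h)
    obtain ⟨A, hA, hx, hy⟩ := (@totallySeparatedSpace_iff_exists_isClopen X (constructibleTopology X)).1
      Spectral.totallySeparated_con hxy'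
    exact ⟨_, ⟨Spectral.isClosed_preimage_ofCon.2 hA.1, Spectral.isOpen_preimage_ofCon.2 hA.2⟩, hx, hy⟩
  infer_instance

theorem subsingleton_HU_clopen (F' : CohTop.Ab (Xc X)) {W : Opens (Xc X)}
    (hW : IsClopen (W : Set (Xc X))) (n : ℕ) : Subsingleton (CohTop.HU F' (n + 1) W) := by
  obtain ⟨e⟩ := nonempty_HU_restr F' W (n + 1)
  haveI : CompactSpace (TopCat.of W) := isCompact_iff_compactSpace.1 hW.1.isCompact
  haveI : T2Space (TopCat.of W) := inferInstanceAs (T2Space (W : Set (Xc X)))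
  haveI : TotallyDisconnectedSpace (TopCat.of W) :=
    inferInstanceAs (TotallyDisconnectedSpace (W : Set (Xc X)))
  haveI := Groth.Agent.S0471.result (CohTop.restr F' W) n
  exact e.injective.subsingleton

theorem epi_push_c {T : ShortComplex (CohTop.Ab (Xc X))} (hT : T.ShortExact) :
    Epi ((CohTop.push (c X)).map T.g) := by
  refine (CategoryTheory.Sheaf.isLocallySurjective_iff_epi' (φ := (CohTop.push (c X)).map T.g)).1 ?_
  refine (TopCat.Presheaf.isLocallySurjective_iff ((CohTop.push (c X)).map T.g).hom).2 fun V s y hy => ?_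
  obtain ⟨W₀, ⟨hW₀o, hW₀c⟩, hyW, hWV⟩ :=
    (PrespectralSpace.isTopologicalBasis (X := X)).exists_subset_of_mem_open hy V.2
  let W : Opens X := ⟨W₀, hW₀o⟩
  have hle : W ≤ V := hWV
  let s' : T.X₃.obj.obj (op ((Opens.map (c X)).obj W)) :=
    QCohBase.res ((CohTop.push (c X)).obj T.X₃).obj hle s
  have := subsingleton_HU_clopen T.X₁ (W := (Opens.map (c X)).obj W) (isClopen_preimage (V := W) hW₀c) 0
  exact ⟨W, hle, (huDelta_zero_iff hT _ s').1 (this.elim _ _), hyW⟩

/-- Cohomology of `c_* F'` over compact opens vanishes. -/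
theorem subsingleton_HU_push (F' : CohTop.Ab (Xc X)) {U : Opens X} (hU : IsCompact (U : Set X))
    (n : ℕ) : Subsingleton (CohTop.HU ((CohTop.push (c X)).obj F') (n + 1) U) := by
  haveI : (CohTop.push (c X)).PreservesZeroMorphisms := by
    exact (pushZero (c X))
  have hP : GoodClass (CohTop.push (c X)) U (fun _ => True) :=
    { coker := fun _ _ _ => trivial
      exact := fun hT _ _ => QCohBase.shortExact_push (c X) hT (epi_push_c hT)
      acyclic := fun I hI m =>
        haveI := hI
        haveI := injective_push (c X) I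
        subsingleton_HU_injective _ m U }
  obtain ⟨e⟩ := nonempty_HU_equiv (G := CohTop.push (c X)) (U := (Opens.map (c X)).obj U) (V := U)
    (fun F => AddEquiv.refl _) (fun _ _ => rfl) hP (F := F') trivial (n + 1)
  haveI := subsingleton_HU_clopen F' (W := (Opens.map (c X)).obj U) (isClopen_preimage hU) n
  exact e.symm.injective.subsingleton

/-- At a point maximal in the support, `F → c_* c^* F` is surjective on stalks. -/
theorem stalkMap_u_surjective {Z : Set X} (hZ : IsClosed Z) {F : CohTop.Ab X} (hF : SuppIn Z F)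
    {η : X} (hη : IsMax Z η) : Function.Surjective (stalkMap (u F) η) := by
  intro t
  obtain ⟨V, hηV, σ, rfl⟩ := exists_germ_eq (G F) t
  obtain ⟨η', rfl⟩ := c_surjective η
  let F' := (CohTop.pull (c X)).obj F
  let φ : Coh (c X) F F' := u F
  obtain ⟨r, hr⟩ := (bijective_stalk_unit (c X) F η').2 (germ F' ((Opens.map (c X)).obj V) η' hηV σ)
  obtain ⟨W, hηW, s, rfl⟩ := exists_germ_eq F r
  replace hr := (φ.stalk_germ W η' hηW s).symm.trans hr
  obtain ⟨O, hηO, hOW, hOV, hO⟩ := exists_res_eq (F := F') (U := (Opens.map (c X)).obj W)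
    (V := (Opens.map (c X)).obj V) (x := η') hηW hηV hr
  let ι := {A : Set X // IsOpen A ∧ IsCompact A ∧ c X η' ∈ A ∧ A ⊆ (W : Set X) ∩ V}
  obtain ⟨A₀, ⟨hA₀o, hA₀c⟩, hηA, hAWV⟩ := (PrespectralSpace.isTopologicalBasis (X := X)).exists_subset_of_mem_open
    (show c X η' ∈ (W : Set X) ∩ V from ⟨hηW, hηV⟩) (W.2.inter V.2)
  haveI : Nonempty ι := ⟨⟨A₀, hA₀o, hA₀c, hηA, hAWV⟩⟩
  let K : ι → Set (Xc X) := fun A => (c X ⁻¹' A.1 ∩ c X ⁻¹' Z) \ (O : Set (Xc X))
  have hKc : ∀ A, IsClosed (K A) := fun A =>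
    ((Spectral.isClopen_preimage_ofCon A.2.1 A.2.2.1).1.inter (hZ.preimage (c X).hom.continuous)).sdiff O.2
  have hempty : ⋂ A, K A = ∅ := by
    refine Set.eq_empty_iff_forall_notMem.2 fun y hy => ?_
    have hy0 := Set.mem_iInter.1 hy ⟨A₀, hA₀o, hA₀c, hηA, hAWV⟩
    have hspec : c X y ⤳ c X η' := by
      refine specializes_iff_forall_open.2 fun A hA hηA' => ?_
      obtain ⟨B, ⟨hBo, hBc⟩, hηB, hBA⟩ := (PrespectralSpace.isTopologicalBasis (X := X)).exists_subset_of_mem_open
        (show c X η' ∈ A ∩ ((W : Set X) ∩ V) from ⟨hηA', hηW, hηV⟩) (hA.inter (W.2.inter V.2))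
      exact (hBA ((Set.mem_iInter.1 hy ⟨B, hBo, hBc, hηB, fun z hz => (hBA hz).2⟩).1.1)).1
    obtain rfl : y = η' := WithTopology.ofTopology_injective _ (hη.2 _ hy0.1.2 hspec)
    exact hy0.2 hηO
  have hdir : Directed (fun a b => b ⊆ a) K := fun A B => by
    refine ⟨⟨A.1 ∩ B.1, A.2.1.inter B.2.1, QuasiSeparatedSpace.inter_isCompact _ _ A.2.1 A.2.2.1 B.2.1 B.2.2.1,
      ⟨A.2.2.2.1, B.2.2.2.1⟩, fun z hz => A.2.2.2.2 hz.1⟩, ?_, ?_⟩
    · exact fun z hz => ⟨⟨hz.1.1.1, hz.1.2⟩, hz.2⟩
    · exact fun z hz => ⟨⟨hz.1.1.2, hz.1.2⟩, hz.2⟩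
  obtain ⟨A, hA⟩ := (isCompact_univ (X := Xc X)).elim_directed_family_closed K hKc
    (by rw [hempty, Set.inter_empty]) hdir
  rw [Set.univ_inter] at hA
  let A' : Opens X := ⟨A.1, A.2.1⟩
  have hAW : A' ≤ W := fun z hz => (A.2.2.2.2 hz).1
  have hAV : A' ≤ V := fun z hz => (A.2.2.2.2 hz).2
  have heq : φ.app A' (QCohBase.res F.obj hAW s) = QCohBase.res (G F).obj hAV σ := by
    refine TopCat.Presheaf.section_ext F' _ _ _ fun y hy => ?_
    by_cases hyZ : c X y ∈ Z
    · have hyO : y ∈ O := by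
        by_contra hyO
        exact Set.eq_empty_iff_forall_notMem.1 hA y ⟨⟨hy, hyZ⟩, hyO⟩
      have e1 : germ F' ((Opens.map (c X)).obj W) y (hOW hyO) (φ.app W s) =
          germ F' ((Opens.map (c X)).obj V) y (hOV hyO) σ := by
        rw [← germ_res F' hOW y hyO, ← germ_res F' hOV y hyO, hO]
      refine ((φ.stalk_germ A' y hy _).symm.trans ?_).trans
        ((germ_res F' ((Opens.map (c X)).map (homOfLE hAV)).le y hy σ).trans rfl).symm
      refine (congrArg (φ.stalk y) (germ_res F hAW (c X y) hy s)).trans ?_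
      exact (φ.stalk_germ W y (hOW hyO) s).trans e1
    · have hz : ∀ x : CohTop.stalk F' y, x = 0 := fun x => by
        obtain ⟨x', rfl⟩ := (bijective_stalk_unit (c X) F y).2 x
        rw [hF _ hyZ x', map_zero]
      exact (hz _).trans (hz _).symm
  refine ⟨germ F A' (c X η') A.2.2.2.1 (QCohBase.res F.obj hAW s), ?_⟩
  refine (stalkMap_germ (u F) A' _ A.2.2.2.1 _).trans ?_
  refine Eq.trans ?_ (germ_res (G F) hAV (c X η') A.2.2.2.1 σ)
  exact congrArg _ heq

end Spectral

end Groth.Agent.SpecVanish
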