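import Groth.Agent.SpecVanish.ProGen
import Groth.Agent.SoftSheaf.Nbhd

/-! # Cohomology of intersections of compact opens of a spectral space

The arguments of `Groth.Agent.SoftSheaf.Compare` and `Groth.Agent.SoftSheaf.Nbhd`, with compact Hausdorff
subspaces replaced by `IsProGen` maps. -/

set_option autoImplicit false
set_option linter.style.haveILetI false

noncomputable section

universe u

open CategoryTheory CategoryTheory.Limits TopologicalSpace Opposite

namespace Groth.Agent.SpecVanish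

open Godement CohTopLib
open SoftSheaf hiding exists_lift_global exists_lift_cycle_zero exists_lift_cycle_succ exists_primitive_near bijective_HUmap_mn exists_decomp exists_primitive_pull subsingleton_HU_pG exists_toH_eq exists_res_eq_zero_of_toH

variable {X Z : TopCat.{u}} {i : Z ⟶ X} {F : CohTop.Ab X} {F' : CohTop.Ab Z}

variable [CompactSpace Z] [PrespectralSpace Z] [QuasiSeparatedSpace Z] [PrespectralSpace X]
  [QuasiSeparatedSpace X] (φ : Coh i F F') (hφ : ∀ z, Function.Bijective (φ.stalk z))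
  (hP : IsProGen i)

include hP in
lemma subsingleton_HU_pG (n k : ℕ) : Subsingleton (CohTop.HU (pStep i F n).X₂ (k + 1) ⊤) :=
  subsingleton_HU_of_isQCFlasque k _ (isQCFlasque_pull (G := G0 (Qn F n)) (G' := (CohTop.pull i).obj (G0 (Qn F n)))
    hP (unitCoh i _) (bijective_stalk_unit i _)) ⊤ isCompact_univ

include hφ hP in
theorem bijective_HUmap_mn (n : ℕ) : ∀ k : ℕ, Function.Bijective (CohTop.HUmap (mn φ n) (k + 1) ⊤) := by
  induction n with
  | zero =>
    intro k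
    haveI : ∀ z, IsIso ((TopCat.Presheaf.stalkFunctor AddCommGrpCat.{u} z).map (mn φ 0).hom) := fun z => by
      refine (ConcreteCategory.isIso_iff_bijective _).2 ?_
      refine (Function.Bijective.of_comp_iff _ (bijective_stalk_unit i (Qn F 0) z)).1 ?_
      have e : ⇑(stalkMap (mn φ 0) z) ∘ ⇑((unitCoh i (Qn F 0)).stalk z) = ⇑(φ.stalk z) :=
        funext fun t => stalk_mn φ 0 z t
      exact (e.symm ▸ hφ z :)
    haveI : IsIso (mn φ 0) := TopCat.Presheaf.isIso_of_stalkFunctor_map_iso (mn φ 0)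
    exact ConcreteCategory.bijective_of_isIso
      ((((Sheaf.cohomologyPresheafFunctor (Opens.grothendieckTopology Z) (k + 1)).map (mn φ 0))).app (op ⊤))
  | succ n ih =>
    intro k
    have hT := shortExact_pStep i F n
    have hT' := shortExact_step (Qn F' n)
    have b := ih (k + 1)
    have d : Function.Bijective (huDelta hT (k + 1) ⊤) :=
      ⟨huDelta_injective hT _ ⊤ (subsingleton_HU_pG hP n k),
        huDelta_surjective hT _ ⊤ (subsingleton_HU_pG hP n (k + 1))⟩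
    have d' : Function.Bijective (huDelta hT' (k + 1) ⊤) :=
      ⟨huDelta_injective hT' _ ⊤ (subsingleton_HU_of_isFlasque (G0 (Qn F' n)) ⊤ k),
        huDelta_surjective hT' _ ⊤ (subsingleton_HU_of_isFlasque (G0 (Qn F' n)) ⊤ (k + 1))⟩
    refine (Function.Bijective.of_comp_iff' d' _).1 ?_
    have e : ⇑(huDelta hT' (k + 1) ⊤) ∘ ⇑(CohTop.HUmap (mn φ (n + 1)) (k + 1) ⊤) =
        ⇑(CohTop.HUmap (mn φ n) (k + 1 + 1) ⊤) ∘ ⇑(huDelta hT (k + 1) ⊤) :=
      funext fun x => (huDelta_nat hT hT' (stepHom φ n) (k + 1) ⊤ x).symm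
    rw [e]
    exact b.comp d

include hφ hP in
lemma exists_decomp (n : ℕ) (c : (Qn F' (n + 1)).obj.obj (op ⊤)) :
    ∃ (c' : (Pn i F (n + 1)).obj.obj (op ⊤)) (e : ΓG F' n),
      c = (mn φ (n + 1)).hom.app (op ⊤) c' + (πn F' n).hom.app (op ⊤) e := by
  have hT := shortExact_pStep i F n
  have hT' := shortExact_step (Qn F' n)
  obtain ⟨y, hy⟩ := (bijective_HUmap_mn φ hφ hP n 0).2 (huDelta hT' 0 ⊤ ((hu0 (Qn F' (n + 1)) ⊤).symm c))
  obtain ⟨x, rfl⟩ := huDelta_surjective hT 0 ⊤ (subsingleton_HU_pG hP n 0) y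
  obtain ⟨c', rfl⟩ := (hu0 (Pn i F (n + 1)) ⊤).symm.surjective x
  have h2 : CohTop.HUmap (mn φ (n + 1)) 0 ⊤ ((hu0 (Pn i F (n + 1)) ⊤).symm c') =
      (hu0 (Qn F' (n + 1)) ⊤).symm ((mn φ (n + 1)).hom.app (op ⊤) c') := by
    apply (hu0 (Qn F' (n + 1)) ⊤).injective
    exact ((hu0_HUmap (mn φ (n + 1)) ⊤ _).trans (congrArg _ ((hu0 (Pn i F (n + 1)) ⊤).apply_symm_apply c'))).trans
      ((hu0 (Qn F' (n + 1)) ⊤).apply_symm_apply _).symm
  have h1 : huDelta hT' 0 ⊤ ((hu0 (Qn F' (n + 1)) ⊤).symm (c - (mn φ (n + 1)).hom.app (op ⊤) c')) = 0 := by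
    rw [map_sub, ← h2]
    refine (map_sub (huDelta hT' 0 ⊤) _ _).trans ?_
    rw [sub_eq_zero, ← hy]
    exact huDelta_nat hT hT' (stepHom φ n) 0 ⊤ _
  obtain ⟨e, he⟩ := (huDelta_zero_iff hT' ⊤ _).1 h1
  exact ⟨c', e, (add_sub_cancel _ c).symm.trans (congrArg ((mn φ (n + 1)).hom.app (op ⊤) c' + ·) he.symm)⟩

include hφ hP in
lemma exists_primitive_pull (n : ℕ) (c' : (Pn i F (n + 1)).obj.obj (op ⊤)) (e : ΓG F' n)
    (h : (mn φ (n + 1)).hom.app (op ⊤) c' = (πn F' n).hom.app (op ⊤) e) :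
    ∃ e' : ((CohTop.pull i).obj (G0 (Qn F n))).obj.obj (op ⊤), (pStep i F n).g.hom.app (op ⊤) e' = c' := by
  have hT := shortExact_pStep i F n
  have hT' := shortExact_step (Qn F' n)
  refine (huDelta_zero_iff hT ⊤ c').1 ((bijective_HUmap_mn φ hφ hP n 0).1 ?_)
  refine Eq.trans ?_ (map_zero _).symm
  refine (huDelta_nat hT hT' (stepHom φ n) 0 ⊤ _).trans ?_
  refine Eq.trans (congrArg (huDelta hT' 0 ⊤) ?_) ((huDelta_zero_iff hT' ⊤ _).2 ⟨e, h.symm⟩)
  apply (hu0 (Qn F' (n + 1)) ⊤).injective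
  exact ((hu0_HUmap (mn φ (n + 1)) ⊤ _).trans (congrArg _ ((hu0 (Pn i F (n + 1)) ⊤).apply_symm_apply _))).trans
    ((hu0 (Qn F' (n + 1)) ⊤).apply_symm_apply _).symm

include hφ hP in
/-- cycles on the subset come from a neighbourhood, in degree zero -/
theorem exists_lift_cycle_zero (w : ΓG F' 0) (hw : dG F' 0 w = 0) :
    ∃ (U : Opens X) (hU : ∀ z, i z ∈ U) (s : SG F 0 U), dS F 0 U s = 0 ∧ rZ φ U hU 0 s = w := by
  obtain ⟨c, rfl⟩ := (ker_dG F' 0 w).1 hw
  obtain ⟨U, hU, s, hs⟩ := SpecVanish.exists_lift_global hP φ hφ c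
  exact ⟨U, hU, (η (Qn F 0)).hom.app (op U) s, dS_η 0 U s, funext fun z => hs z.1⟩

include hφ hP in
/-- cycles on the subset come from a neighbourhood up to boundaries -/
theorem exists_lift_cycle_succ (n : ℕ) (w : ΓG F' (n + 1)) (hw : dG F' (n + 1) w = 0) :
    ∃ (U : Opens X) (hU : ∀ z, i z ∈ U) (s : SG F (n + 1) U) (e : ΓG F' n),
      dS F (n + 1) U s = 0 ∧ rZ φ U hU (n + 1) s + dG F' n e = w := by
  obtain ⟨c, rfl⟩ := (ker_dG F' (n + 1) w).1 hw
  obtain ⟨c', e, rfl⟩ := exists_decomp φ hφ hP n c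
  obtain ⟨U, hU, s, hs⟩ := SpecVanish.exists_lift_global hP (unitCoh i (Qn F (n + 1))) (bijective_stalk_unit i _) c'
  refine ⟨U, hU, (η (Qn F (n + 1))).hom.app (op U) s, e, dS_η (n + 1) U s, ?_⟩
  have h1 : rZ φ U hU (n + 1) ((η (Qn F (n + 1))).hom.app (op U) s) =
      (η (Qn F' (n + 1))).hom.app (op ⊤) ((mn φ (n + 1)).hom.app (op ⊤) c') := by
    funext z
    refine (congrArg (fun t => t) (stalk_mn φ (n + 1) z.1 _).symm).trans ?_
    exact (congrArg (stalkMap (mn φ (n + 1)) z.1) (hs z.1)).trans (stalkMap_germ _ ⊤ z.1 trivial c')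
  rw [h1]
  exact (map_add ((η (Qn F' (n + 1))).hom.app (op ⊤)).hom _ _).symm

include hφ hP in
/-- cycles which are boundaries on the subset are boundaries near it -/
theorem exists_primitive_near (n : ℕ) {U : Opens X} (hU : ∀ z, i z ∈ U) (s : SG F (n + 1) U)
    (hs : dS F (n + 1) U s = 0) (e : ΓG F' n) (h : rZ φ U hU (n + 1) s = dG F' n e) :
    ∃ (U' : Opens X) (hle : U' ≤ U) (t : SG F n U'), (∀ z, i z ∈ U') ∧
      (cxURes F hle).f (n + 1) s = dS F n U' t := by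
  obtain ⟨q, rfl⟩ := exists_η_of_dS (n + 1) U s hs
  let c' : (Pn i F (n + 1)).obj.obj (op ⊤) :=
    (Pn i F (n + 1)).obj.map (homOfLE (top_le U hU)).op ((unitCoh i (Qn F (n + 1))).app U q)
  have hc : ∀ z, germ (Pn i F (n + 1)) ⊤ z trivial c' =
      (unitCoh i (Qn F (n + 1))).stalk z (germ _ U (i z) (hU z) q) := fun z => by
    rw [Coh.stalk_germ _ U z (hU z)]
    exact germ_res_top _ (top_le U hU) z _
  have hm : (mn φ (n + 1)).hom.app (op ⊤) c' = (πn F' n).hom.app (op ⊤) e := by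
    refine η_app_injective (Qn F' (n + 1)) ⊤ (Eq.trans (funext fun z => ?_) h)
    refine Eq.trans ?_ (stalk_mn φ (n + 1) z.1 _)
    exact (stalkMap_germ _ ⊤ z.1 trivial c').symm.trans (congrArg (stalkMap (mn φ (n + 1)) z.1) (hc z.1))
  obtain ⟨e', he'⟩ := exists_primitive_pull φ hφ hP n c' e hm
  obtain ⟨U₁, hU₁, t, ht⟩ := SpecVanish.exists_lift_global hP (F' := (CohTop.pull i).obj (G0 (Qn F n))) (unitCoh i (G0 (Qn F n)))
    (bijective_stalk_unit i _) e'
  let V : Opens X := U ⊓ U₁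
  let d : (Qn F (n + 1)).obj.obj (op V) :=
    (Qn F (n + 1)).obj.map (homOfLE (inf_le_left : V ≤ U)).op q -
      (Qn F (n + 1)).obj.map (homOfLE (inf_le_right : V ≤ U₁)).op ((πn F n).hom.app (op U₁) t)
  obtain ⟨U', hle, hU', hd⟩ := exists_res_zero (unitCoh i (Qn F (n + 1))) (bijective_stalk_unit i _) (U := V)
    (fun z => ⟨hU z, hU₁ z⟩) d fun z => by
      have hu : (unitCoh i (Qn F (n + 1))).stalk z (germ _ U₁ (i z) (hU₁ z) ((πn F n).hom.app (op U₁) t)) =
          germ (Pn i F (n + 1)) ⊤ z trivial ((pStep i F n).g.hom.app (op ⊤) e') := by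
        have nat : (πn F n) ≫ unitCoh i (Qn F (n + 1)) =
            unitCoh i (G0 (Qn F n)) ≫ (CohTop.push i).map ((CohTop.pull i).map (πn F n)) :=
          (adj i).unit.naturality (πn F n)
        have n1 := ConcreteCategory.congr_hom (congrArg
          (fun m : G0 (Qn F n) ⟶ (CohTop.push i).obj (Pn i F (n + 1)) => m.hom.app (op U₁)) nat) t
        rw [Coh.stalk_germ _ U₁ z (hU₁ z)]
        refine (congrArg (germ (Pn i F (n + 1)) _ z _) n1).trans ?_
        refine germ_app_eq ((CohTop.pull i).map (πn F n)) _ _ ?_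
        exact ((unitCoh i (G0 (Qn F n))).stalk_germ U₁ z (hU₁ z) t).symm.trans (ht z)
      rw [map_sub, map_sub, germ_res, germ_res, hu, he', hc, sub_self]
  have hle₁ : U' ≤ U := hle.trans inf_le_left
  have hle₂ : U' ≤ U₁ := hle.trans inf_le_right
  refine ⟨U', hle₁, (G0 (Qn F n)).obj.map (homOfLE hle₂).op t, hU', (cxURes_f F hle₁ (n + 1) _).trans ?_⟩
  rw [← app_res]
  refine congrArg ((η (Qn F (n + 1))).hom.app (op U')) ?_
  refine Eq.trans ?_ (app_res (πn F n) hle₂ t).symm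
  rw [map_sub, sub_eq_zero, ← ConcreteCategory.comp_apply, ← Functor.map_comp, ← ConcreteCategory.comp_apply,
    ← Functor.map_comp] at hd
  exact hd


include hφ hP in
/-- classes on the subset come from a neighbourhood -/
theorem exists_toH_eq (n : ℕ) (c : CohTop.HU F' n ⊤) :
    ∃ (U : Opens X) (hU : ∀ z, i z ∈ U) (a : CohTop.HU F n U), toH φ n U hU a = c := by
  obtain ⟨c, rfl⟩ := cls_surjective F' n ⊤ c
  obtain _ | m := n
  · obtain ⟨U, hU, s, hs, hr⟩ := exists_lift_cycle_zero φ hφ hP ((η (Qn F' 0)).hom.app (op ⊤) c)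
      ((ker_dG F' 0 _).2 ⟨c, rfl⟩)
    obtain ⟨q, rfl⟩ := exists_η_of_dS 0 U s hs
    refine ⟨U, hU, cls F 0 U q, (toH_cls φ 0 U hU q).trans (congrArg (cls F' 0 ⊤) ?_)⟩
    exact η_app_injective (Qn F' 0) ⊤ ((rZ_η' φ U hU 0 q).symm.trans hr)
  · obtain ⟨U, hU, s, e, hs, hr⟩ := exists_lift_cycle_succ φ hφ hP m
      ((η (Qn F' (m + 1))).hom.app (op ⊤) c) ((ker_dG F' (m + 1) _).2 ⟨c, rfl⟩)
    obtain ⟨q, rfl⟩ := exists_η_of_dS (m + 1) U s hs
    refine ⟨U, hU, cls F (m + 1) U q, (toH_cls φ (m + 1) U hU q).trans ?_⟩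
    have h1 : toQ φ (m + 1) U hU q + (πn F' m).hom.app (op ⊤) e = c := by
      refine η_app_injective (Qn F' (m + 1)) ⊤ ((map_add ((η (Qn F' (m + 1))).hom.app (op ⊤)).hom _ _).trans ?_)
      exact Eq.trans (congrArg (· + _) (rZ_η' φ U hU (m + 1) q).symm) hr
    rw [← h1, map_add, (cls_succ_eq_zero_iff F' m ⊤ ((πn F' m).hom.app (op ⊤) e)).2 ⟨e, rfl⟩, add_zero]

include hφ hP in
/-- classes vanishing on the subset vanish on a neighbourhood -/
theorem exists_res_eq_zero_of_toH (n : ℕ) {U : Opens X} (hU : ∀ z, i z ∈ U) (a : CohTop.HU F n U)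
    (h : toH φ n U hU a = 0) :
    ∃ (U' : Opens X) (hle : U' ≤ U), (∀ z, i z ∈ U') ∧ CohTop.res F n hle a = 0 := by
  obtain ⟨q, rfl⟩ := cls_surjective F n U a
  rw [toH_cls] at h
  obtain _ | m := n
  · obtain ⟨U', hle, hU', e⟩ := exists_res_zero_zero φ hφ hU ((η (Qn F 0)).hom.app (op U) q) (dS_η 0 U q)
      ((rZ_η' φ U hU 0 q).trans ((congrArg ((η (Qn F' 0)).hom.app (op ⊤)) ((cls_zero_eq_zero_iff F' ⊤ _).1 h)).trans
        (map_zero _)))
    refine ⟨U', hle, hU', (cls_res F 0 hle q).symm.trans ((cls_zero_eq_zero_iff F U' _).2 ?_)⟩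
    exact η_app_injective (Qn F 0) U' (((app_res (η (Qn F 0)) hle q).trans e).trans (map_zero _).symm)
  · obtain ⟨e, he⟩ := (cls_succ_eq_zero_iff F' m ⊤ _).1 h
    obtain ⟨U', hle, t, hU', ht⟩ := exists_primitive_near φ hφ hP m hU
      ((η (Qn F (m + 1))).hom.app (op U) q) (dS_η (m + 1) U q) e
      ((rZ_η' φ U hU (m + 1) q).trans (congrArg ((η (Qn F' (m + 1))).hom.app (op ⊤)) he.symm))
    refine ⟨U', hle, hU', (cls_res F (m + 1) hle q).symm.trans ((cls_succ_eq_zero_iff F m U' _).2 ⟨t, ?_⟩)⟩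
    exact η_app_injective (Qn F (m + 1)) U' (ht.symm.trans (app_res (η (Qn F (m + 1))) hle q).symm)

end Groth.Agent.SpecVanish
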