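import Groth.Agent.SpecVanish.QCFlasque
import Groth.Agent.SoftSheaf.Restrict
import Groth.Agent.Spectral.Basic

/-! # Sections on subspaces which are intersections of compact opens -/

set_option autoImplicit false
set_option linter.style.haveILetI false

noncomputable section

universe u

open CategoryTheory CategoryTheory.Limits TopologicalSpace Opposite

namespace Groth.Agent.SpecVanish

open Godement CohTopLib

variable {X Z : TopCat.{u}} {i : Z ⟶ X}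

/-- Every open containing `Z ∩ A` (`A` compact open) contains `U ∩ A` for some open `U ⊇ Z`. -/
structure IsProGen (i : Z ⟶ X) : Prop where
  inducing : Topology.IsInducing i
  nbhd : ∀ A O : Opens X, IsCompact (A : Set X) → (∀ z, i z ∈ A → i z ∈ O) →
    ∃ U : Opens X, (∀ z, i z ∈ U) ∧ U ⊓ A ≤ O

variable (hP : IsProGen i) [PrespectralSpace X] [QuasiSeparatedSpace X] [PrespectralSpace Z]

include hP

omit [QuasiSeparatedSpace X] [PrespectralSpace Z] in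
lemma exists_compact_open {V : Opens Z} (hV : IsCompact (V : Set Z)) :
    ∃ A : Opens X, IsCompact (A : Set X) ∧ (Opens.map i).obj A = V := by
  have h : ∀ z : V, ∃ A : Opens X, IsCompact (A : Set X) ∧ i z.1 ∈ A ∧ (Opens.map i).obj A ≤ V := fun z => by
    obtain ⟨O, hO, hOV⟩ := hP.inducing.isOpen_iff.1 V.2
    have hz : i z.1 ∈ O := by
      have := (Set.ext_iff.1 hOV z.1).2 z.2
      exact this
    obtain ⟨A, ⟨hAo, hAc⟩, hzA, hAO⟩ :=
      (PrespectralSpace.isTopologicalBasis (X := X)).exists_subset_of_mem_open hz hO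
    exact ⟨⟨A, hAo⟩, hAc, hzA, fun w hw => (Set.ext_iff.1 hOV w).1 (hAO hw)⟩
  choose A hAc hzA hAV using h
  obtain ⟨t, ht⟩ := hV.elim_finite_subcover (fun z : V => ((Opens.map i).obj (A z) : Set Z))
    (fun z => ((Opens.map i).obj (A z)).2) (fun z hz => Set.mem_iUnion.2 ⟨⟨z, hz⟩, hzA ⟨z, hz⟩⟩)
  refine ⟨⟨⋃ z ∈ t, (A z : Set X), isOpen_biUnion fun z _ => (A z).2⟩,
    t.finite_toSet.isCompact_biUnion fun z _ => hAc z, ?_⟩
  ext w
  constructor
  · intro hw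
    obtain ⟨z, _, hwz⟩ := Set.mem_iUnion₂.1 hw
    exact hAV z hwz
  · intro hw
    obtain ⟨z, hz, hwz⟩ := Set.mem_iUnion₂.1 (ht hw)
    exact Set.mem_iUnion₂.2 ⟨z, hz, hwz⟩

omit [PrespectralSpace Z] in
/-- Sections over the trace of a compact open extend near the subspace. -/
theorem exists_lift_near {F : CohTop.Ab X} {F' : CohTop.Ab Z} (φ : Coh i F F')
    (hφ : ∀ z, Function.Bijective (φ.stalk z)) {A : Opens X}
    (hA' : IsCompact ((Opens.map i).obj A : Set Z))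
    (σ : F'.obj.obj (op ((Opens.map i).obj A))) :
    ∃ (U : Opens X) (_ : ∀ z, i z ∈ U) (B : Opens X) (s : F.obj.obj (op B)),
      U ⊓ A ⊓ B = B ∧ ∀ z (hz : i z ∈ A), ∃ hzB : i z ∈ B,
        φ.stalk z (germ F B (i z) hzB s) = germ F' _ z hz σ := by
  let Good : Set Z → Prop := fun L => ∃ (U : Opens X) (B : Opens X) (s : F.obj.obj (op B)),
    (∀ z, i z ∈ U) ∧ B ≤ A ∧ (∃ C : Opens X, IsCompact (C : Set X) ∧ B = U ⊓ C ∧ ∀ z, z ∈ L → i z ∈ C) ∧
    ∀ z (hzB : i z ∈ B) (hz : i z ∈ A), φ.stalk z (germ F B (i z) hzB s) = germ F' _ z hz σ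
  have key : Good ((Opens.map i).obj A : Set Z) := by
    refine hA'.induction_on ?_ ?_ ?_ fun x hx => ?_
    · refine ⟨⊤, ⊥, 0, fun z => trivial, bot_le,
        ⟨⊥, isCompact_empty, inf_bot_eq _ |>.symm, fun z hz => absurd hz (Set.notMem_empty z)⟩,
        fun z hzB _ => absurd hzB (fun h => h.elim)⟩
    · rintro L L' hle ⟨U, B, s, hU, hBA, ⟨C, hC, hBC, hLC⟩, hs⟩
      exact ⟨U, B, s, hU, hBA, ⟨C, hC, hBC, fun z hz => hLC z (hle hz)⟩, hs⟩
    · rintro L₁ L₂ ⟨U₁, B₁, s₁, hU₁, hB₁A, ⟨C₁, hC₁, rfl, hL₁⟩, hs₁⟩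
        ⟨U₂, B₂, s₂, hU₂, hB₂A, ⟨C₂, hC₂, rfl, hL₂⟩, hs₂⟩
      have hC : IsCompact ((C₁ ⊓ C₂ : Opens X) : Set X) :=
        QuasiSeparatedSpace.inter_isCompact _ _ C₁.2 hC₁ C₂.2 hC₂
      obtain ⟨U, hU, hUO⟩ := hP.nbhd (C₁ ⊓ C₂) (SoftSheaf.eqLocus F s₁ s₂) hC fun z hz => by
        have hzA : i z ∈ A := hB₁A ⟨hU₁ z, hz.1⟩
        exact ⟨⟨hU₁ z, hz.1⟩, ⟨hU₂ z, hz.2⟩,
          (hφ z).1 ((hs₁ z ⟨hU₁ z, hz.1⟩ hzA).trans (hs₂ z ⟨hU₂ z, hz.2⟩ hzA).symm)⟩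
      let V := U ⊓ U₁ ⊓ U₂
      have h₁ : V ⊓ C₁ ≤ U₁ ⊓ C₁ := inf_le_inf_right _ (inf_le_left.trans inf_le_right)
      have h₂ : V ⊓ C₂ ≤ U₂ ⊓ C₂ := inf_le_inf_right _ inf_le_right
      obtain ⟨c, hc₁, hc₂⟩ := SoftSheaf.glue₂ F (F.obj.map (homOfLE h₁).op s₁) (F.obj.map (homOfLE h₂).op s₂)
        fun x hA hB => by
          rw [germ_res, germ_res]
          obtain ⟨_, _, e⟩ := hUO ⟨hA.1.1.1, hA.2, hB.2⟩
          exact e
      have heq : (V ⊓ C₁) ⊔ (V ⊓ C₂) = V ⊓ (C₁ ⊔ C₂) := (inf_sup_left _ _ _).symm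
      refine ⟨V, (V ⊓ C₁) ⊔ (V ⊓ C₂), c, fun z => ⟨⟨hU z, hU₁ z⟩, hU₂ z⟩,
        sup_le (h₁.trans hB₁A) (h₂.trans hB₂A), ⟨C₁ ⊔ C₂, hC₁.union hC₂, heq, ?_⟩, ?_⟩
      · rintro z (hz | hz)
        exacts [Or.inl (hL₁ z hz), Or.inr (hL₂ z hz)]
      · intro z hzB hz
        rcases hzB with h | h
        · refine (congrArg (φ.stalk z) (hc₁ _ h)).trans ?_
          rw [germ_res]
          exact hs₁ z (h₁ h) hz
        · refine (congrArg (φ.stalk z) (hc₂ _ h)).trans ?_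
          rw [germ_res]
          exact hs₂ z (h₂ h) hz
    · obtain ⟨W, s, hxW, hs⟩ := SoftSheaf.exists_section_near φ hφ hP.inducing σ x hx
      obtain ⟨C, ⟨hCo, hCc⟩, hxC, hCW⟩ := (PrespectralSpace.isTopologicalBasis (X := X)).exists_subset_of_mem_open
        (show i x ∈ (W : Set X) ∩ A from ⟨hxW, hx⟩) (W.2.inter A.2)
      let C' : Opens X := ⟨C, hCo⟩
      have hCW' : (⊤ : Opens X) ⊓ C' ≤ W := fun y hy => (hCW hy.2).1
      refine ⟨((Opens.map i).obj C' : Set Z), mem_nhdsWithin_of_mem_nhds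
        (((Opens.map i).obj C').2.mem_nhds hxC), ⊤, ⊤ ⊓ C', F.obj.map (homOfLE hCW').op s,
        fun z => trivial, fun y hy => (hCW hy.2).2, ⟨C', hCc, rfl, fun z hz => hz⟩, fun z hzB hz => ?_⟩
      rw [germ_res]
      obtain ⟨hzV, e⟩ := hs z (hCW' hzB)
      exact e
  obtain ⟨U, B, s, hU, hBA, ⟨C, hC, rfl, hLC⟩, hs⟩ := key
  refine ⟨U, hU, U ⊓ C, s, ?_, fun z hz => ⟨⟨hU z, hLC z hz⟩, hs z _ hz⟩⟩
  exact inf_eq_right.2 (le_inf inf_le_left hBA)

omit [PrespectralSpace Z] in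
/-- Global sections on the subspace extend to a neighbourhood. -/
theorem exists_lift_global [CompactSpace Z] {F : CohTop.Ab X} {F' : CohTop.Ab Z} (φ : Coh i F F')
    (hφ : ∀ z, Function.Bijective (φ.stalk z)) (σ : F'.obj.obj (op ⊤)) :
    ∃ (U : Opens X) (hU : ∀ z, i z ∈ U) (s : F.obj.obj (op U)),
      ∀ z, φ.stalk z (germ F U (i z) (hU z) s) = germ F' ⊤ z trivial σ := by
  obtain ⟨U, -, B, s, -, hs⟩ := exists_lift_near hP φ hφ (A := ⊤) isCompact_univ σ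
  exact ⟨B, fun z => (hs z trivial).1, s, fun z => (hs z trivial).2⟩

/-- Restrictions of flasque sheaves are flasque on compact opens. -/
theorem isQCFlasque_pull {G : CohTop.Ab X} [TopCat.Sheaf.IsFlasque G] {G' : CohTop.Ab Z} (φ : Coh i G G')
    (hφ : ∀ z, Function.Bijective (φ.stalk z)) : IsQCFlasque G' := by
  intro V hV σ
  obtain ⟨A, hA, rfl⟩ := exists_compact_open hP hV
  obtain ⟨U, -, B, s, -, hs⟩ := exists_lift_near hP φ hφ hV σ
  obtain ⟨t, ht⟩ := (AddCommGrpCat.epi_iff_surjective _).1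
    (TopCat.Presheaf.IsFlasque.epi (F := G.obj) (homOfLE (le_top : B ≤ ⊤)).op) s
  refine ⟨φ.app ⊤ t, TopCat.Presheaf.section_ext G' _ _ _ fun z hz => ?_⟩
  obtain ⟨hzB, e⟩ := hs z hz
  refine (germ_res G' le_top z hz _).trans ?_
  refine ((φ.stalk_germ ⊤ z trivial t).symm.trans ?_).trans e
  exact congrArg (φ.stalk z) ((germ_res G le_top (i z) hzB t).symm.trans (congrArg _ ht))

end Groth.Agent.SpecVanish
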