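import Groth.Agent.CohTopLib.Functors
import Groth.Agent.Godement.Germs
import Groth.Agent.Godement.Stalk
import Mathlib.Topology.Spectral.Prespectral
import Mathlib.Topology.QuasiSeparated

/-! # Sheaves flasque on compact opens -/

set_option autoImplicit false
set_option linter.style.haveILetI false

noncomputable section

universe u

open CategoryTheory CategoryTheory.Limits TopologicalSpace Opposite

namespace Groth.Agent.SpecVanish

open QCohBase CohTopLib Godement

variable {Z : TopCat.{u}}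

/-- Global sections surject onto sections over compact opens. -/
def IsQCFlasque (F : CohTop.Ab Z) : Prop :=
  ∀ U : Opens Z, IsCompact (U : Set Z) → Function.Surjective (QCohBase.res F.obj (le_top : U ≤ ⊤))

lemma isQCFlasque_of_isFlasque (F : CohTop.Ab Z) [TopCat.Sheaf.IsFlasque F] : IsQCFlasque F :=
  fun U _ => (AddCommGrpCat.epi_iff_surjective _).1
    (TopCat.Presheaf.IsFlasque.epi (F := F.obj) (homOfLE (le_top : U ≤ ⊤)).op)

variable [PrespectralSpace Z] [QuasiSeparatedSpace Z] {T : ShortComplex (CohTop.Ab Z)}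

lemma surjective_of_isQCFlasque (hT : T.ShortExact) (h₁ : IsQCFlasque T.X₁) {U : Opens Z}
    (hU : IsCompact (U : Set Z)) : Function.Surjective (T.g.hom.app (op U)) := by
  intro s
  let Good : Set Z → Prop := fun L => ∃ (W : Opens Z) (hle : W ≤ U), IsCompact (W : Set Z) ∧ L ⊆ W ∧
    ∃ b : T.X₂.obj.obj (op W), T.g.hom.app (op W) b = QCohBase.res T.X₃.obj hle s
  have key : Good (U : Set Z) := by
    refine hU.induction_on ?_ ?_ ?_ fun x hx => ?_
    · refine ⟨⊥, bot_le, isCompact_empty, Set.empty_subset _, 0, ?_⟩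
      exact (subsingleton_sections_bot T.X₃ (U := ⊥) (fun x hx => hx.elim)).elim _ _
    · rintro L L' hle ⟨W, hW, hWc, hLW, hb⟩
      exact ⟨W, hW, hWc, hle.trans hLW, hb⟩
    · rintro L₁ L₂ ⟨W₁, hW₁, hc₁, hL₁, b₁, hb₁⟩ ⟨W₂, hW₂, hc₂, hL₂, b₂, hb₂⟩
      have h12 : IsCompact ((W₁ ⊓ W₂ : Opens Z) : Set Z) :=
        QuasiSeparatedSpace.inter_isCompact _ _ W₁.2 hc₁ W₂.2 hc₂
      have h0 : T.g.hom.app (op (W₁ ⊓ W₂)) (T.X₂.obj.map (homOfLE (inf_le_left : W₁ ⊓ W₂ ≤ W₁)).op b₁ -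
          T.X₂.obj.map (homOfLE (inf_le_right : W₁ ⊓ W₂ ≤ W₂)).op b₂) = 0 := by
        rw [map_sub, app_res, app_res, hb₁, hb₂, sub_eq_zero]
        exact (QCohBase.res_res T.X₃.obj hW₁ inf_le_left s).trans
          (QCohBase.res_res T.X₃.obj hW₂ inf_le_right s).symm
      obtain ⟨a, ha⟩ := TopCat.Sheaf.sections_exact_of_left_exact hT.exact hT.mono_f _ h0
      obtain ⟨α, hα⟩ := h₁ (W₁ ⊓ W₂) h12 a
      let b₂' := b₂ + T.X₂.obj.map (homOfLE (le_top : W₂ ≤ ⊤)).op (T.f.hom.app (op ⊤) α)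
      have hagree : ∀ y (h₁ : y ∈ W₁) (h₂ : y ∈ W₂),
          Godement.germ T.X₂ W₁ y h₁ b₁ = Godement.germ T.X₂ W₂ y h₂ b₂' := fun y h₁ h₂ => by
        have hα' : Godement.germ T.X₁ ⊤ y trivial α = Godement.germ T.X₁ (W₁ ⊓ W₂) y ⟨h₁, h₂⟩ a :=
          (Godement.germ_res T.X₁ (le_top : W₁ ⊓ W₂ ≤ ⊤) y ⟨h₁, h₂⟩ α).symm.trans (congrArg _ hα)
        have e1 := germ_app_eq T.f (U := ⊤) (V := W₁ ⊓ W₂) (x := y) trivial ⟨h₁, h₂⟩ hα'
        rw [ha, map_sub, Godement.germ_res, Godement.germ_res] at e1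
        rw [map_add, Godement.germ_res, e1, add_sub_cancel]
      have hgb : T.g.hom.app (op W₂) b₂' = QCohBase.res T.X₃.obj hW₂ s := by
        rw [map_add, hb₂, app_res, ← ConcreteCategory.comp_apply (T.f.hom.app (op ⊤)) (T.g.hom.app (op ⊤)),
          ← NatTrans.comp_app, ← ObjectProperty.FullSubcategory.comp_hom, T.zero]
        simp
      let D : Bool → Opens Z := fun k => if k then W₁ else W₂
      have hD : ∀ k, D k ≤ W₁ ⊔ W₂ := by
        rintro (_ | _)
        exacts [le_sup_right, le_sup_left]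
      let sf : ∀ k, T.X₂.obj.obj (op (D k)) := fun k =>
        match k with
        | true => b₁
        | false => b₂'
      have hc : TopCat.Presheaf.IsCompatible T.X₂.obj D sf := fun k l => by
        refine TopCat.Presheaf.section_ext T.X₂ _ _ _ fun x hx => ?_
        refine (TopCat.Presheaf.germ_res_apply T.X₂.obj _ x hx _).trans
          (Eq.trans ?_ (TopCat.Presheaf.germ_res_apply T.X₂.obj _ x hx _).symm)
        rcases k with _ | _ <;> rcases l with _ | _
        exacts [rfl, (hagree x hx.2 hx.1).symm, hagree x hx.1 hx.2, rfl]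
      have hcov : W₁ ⊔ W₂ ≤ iSup D := by
        intro x hx
        rcases hx with hx | hx
        · exact Opens.mem_iSup.2 ⟨true, hx⟩
        · exact Opens.mem_iSup.2 ⟨false, hx⟩
      obtain ⟨b, hb, -⟩ := TopCat.Sheaf.existsUnique_gluing' T.X₂ D (W₁ ⊔ W₂) (fun k => homOfLE (hD k))
        hcov sf hc
      refine ⟨W₁ ⊔ W₂, sup_le hW₁ hW₂, hc₁.union hc₂, Set.union_subset_union hL₁ hL₂, b, ?_⟩
      refine TopCat.Sheaf.eq_of_locally_eq' T.X₃ D (W₁ ⊔ W₂) (fun k => homOfLE (hD k)) hcov _ _ fun k => ?_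
      refine (ConcreteCategory.congr_hom (T.g.hom.naturality (homOfLE (hD k)).op) b).symm.trans ?_
      refine (congrArg (T.g.hom.app (op (D k))) (hb k)).trans ?_
      refine Eq.trans ?_ (QCohBase.res_res T.X₃.obj (sup_le hW₁ hW₂) (hD k) s).symm
      rcases k with _ | _
      exacts [hgb, hb₁]
    · obtain ⟨W, hWU, ⟨b, hb⟩, hxW⟩ := (TopCat.Presheaf.isLocallySurjective_iff T.g.hom).mp
        ((CategoryTheory.Sheaf.isLocallySurjective_iff_epi' (φ := T.g)).mpr hT.epi_g) U s x hx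
      obtain ⟨W₀, ⟨hW₀o, hW₀c⟩, hxW₀, hW₀W⟩ :=
        (PrespectralSpace.isTopologicalBasis (X := Z)).exists_subset_of_mem_open hxW W.2
      refine ⟨W₀, mem_nhdsWithin_of_mem_nhds (hW₀o.mem_nhds hxW₀), ⟨W₀, hW₀o⟩,
        fun y hy => hWU (hW₀W hy), hW₀c, subset_rfl, QCohBase.res T.X₂.obj (fun y hy => hW₀W hy) b, ?_⟩
      refine (nat_res T.X₂.obj T.g.hom (fun y hy => hW₀W hy) b).symm.trans ?_
      exact (congrArg _ hb).trans (QCohBase.res_res T.X₃.obj hWU (fun y hy => hW₀W hy) s)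
  obtain ⟨W, hle, -, hUW, b, hb⟩ := key
  obtain rfl : W = U := le_antisymm hle hUW
  exact ⟨b, hb.trans (ConcreteCategory.congr_hom (T.X₃.obj.map_id (op W)) s)⟩

lemma isQCFlasque_cokernel (hT : T.ShortExact) (h₁ : IsQCFlasque T.X₁) (h₂ : IsQCFlasque T.X₂) :
    IsQCFlasque T.X₃ := fun U hU s => by
  obtain ⟨b, rfl⟩ := surjective_of_isQCFlasque hT h₁ hU s
  obtain ⟨β, rfl⟩ := h₂ U hU b
  exact ⟨T.g.hom.app (op ⊤) β, nat_res T.X₂.obj T.g.hom le_top β⟩

theorem subsingleton_HU_of_isQCFlasque (n : ℕ) : ∀ (F : CohTop.Ab Z), IsQCFlasque F →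
    ∀ U : Opens Z, IsCompact (U : Set Z) → Subsingleton (CohTop.HU F (n + 1) U) := by
  induction n with
  | zero =>
    intro F hF U hU
    have hT := CovSystem.injSeq_shortExact F
    refine subsingleton_of_forall_eq 0 fun x => ?_
    obtain ⟨y, rfl⟩ := huDelta_surjective hT 0 U (subsingleton_HU_injective _ 0 U) x
    obtain ⟨s, rfl⟩ := (hu0 (CovSystem.injSeq F).X₃ U).symm.surjective y
    exact (huDelta_zero_iff hT U s).2 (surjective_of_isQCFlasque hT hF hU s)
  | succ n ih =>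
    intro F hF U hU
    have hT := CovSystem.injSeq_shortExact F
    haveI := FlasqueAcyclic.isFlasque_of_injective (CovSystem.injSeq F).X₂
    have := ih _ (isQCFlasque_cokernel hT hF (isQCFlasque_of_isFlasque _)) U hU
    exact (huDelta_surjective hT (n + 1) U (subsingleton_HU_injective _ _ U)).subsingleton

end Groth.Agent.SpecVanish
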